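import Cfsg.Agent.H18.Sieve
import Cfsg.Agent.H5.Burnside
import Cfsg.Agent.S0499
import Cfsg.Agent.S0205

/-! A Boolean sieve excluding orders of non-abelian simple groups. -/

set_option autoImplicit false

namespace Cfsg.Agent.H18

namespace Sieve

def idxOK (n k : ℕ) : Bool := decide (60 ≤ k) || k.factorial % n == 0

def three (L : List ℕ) (m p : ℕ) : Bool :=
  p != 2 && L.any fun r => r != 2 && r != p && (2 ^ 13 * r ^ 13) % m == 0

def optP (L : List ℕ) (n p np e c : ℕ) : Bool :=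
  np * (e * (p * c)) == n && e != 1 && (p - 1) % e == 0 && idxOK n np &&
    (c == 1 || !three L (n / p) p) &&
    L.all fun q => c % q != 0 ||
      (List.range np).any fun f => f % p == 1 && np % q == f % q && (q != 2 || np % 4 == f % 4)

def killP (L : List ℕ) (n p : ℕ) : Bool :=
  n % p == 0 && (n / p) % p != 0 && (List.range (n / p / p + 1)).all fun j =>
    j == 0 || (n / p) % (p * j + 1) != 0 ||
      (List.range p).all fun e => !optP L n p (p * j + 1) e (n / ((p * j + 1) * (e * p)))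

def optS (n p k m np : ℕ) : Bool :=
  m % np == 0 && idxOK n np && (k != 2 || (decide (p * p < np) && np != m)) &&
    (np % (p * p) == 1 || (List.range (m + 1)).any fun b => m % b == 0 && b != m &&
      idxOK n (m / b) && (List.range (b + 1)).any fun a => a % p == 1 && a != 1 && b % a == 0) &&
    (np != m || decide (7 < p) || (p * p).factorial % p ^ (k + 1) != 0) &&
    (k != 2 || p == 2 || m != 2 * np || np % (p * p) == 1 ||
      (List.range (m + 1)).any fun a => a % p == 1 && a != 1 && m % (2 * a) == 0 && m != 2 * a &&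
        idxOK n (m / (2 * a)))

def killS (n p k : ℕ) : Bool :=
  n % p ^ k == 0 && (n / p ^ k) % p != 0 && decide (2 ≤ k) &&
    (List.range (n / p ^ k / p + 1)).all fun j => j == 0 || !optS n p k (n / p ^ k) (p * j + 1)

def killed (L : List ℕ) (n : ℕ) : Bool :=
  (n % 12 != 0 && n % 16 != 0 && n % 56 != 0) || (L.any fun r => (2 ^ 13 * r ^ 13) % n == 0) ||
    L.any (killP L n) || L.any fun p => n % (p * p) == 0 && (List.range 13).any (killS n p)

theorem idxOK_of_dvd {n k : ℕ} (h : n ∣ k.factorial) : idxOK n k = true := by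
  simp [idxOK, Nat.mod_eq_zero_of_dvd h]

theorem exists_j {p m np : ℕ} (hm : 0 < m) (h1 : np ∣ m) (h2 : np % p = 1) (h3 : np ≠ 1) :
    ∃ j, j < m / p + 1 ∧ j ≠ 0 ∧ np = p * j + 1 := by
  refine ⟨np / p, Nat.lt_succ_of_le (Nat.div_le_div_right (Nat.le_of_dvd hm h1)), fun e => h3 ?_,
    by rw [← h2, Nat.div_add_mod]⟩
  rw [← Nat.div_add_mod np p, e, h2]; simp

variable {G : Type*} [Group G] [Finite G] [IsSimpleGroup G]

theorem not_killP (hG : ¬ IsMulCommutative G) {L : List ℕ} (hL : ∀ p ∈ L, p.Prime) {p : ℕ}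
    (hp : p.Prime) : killP L (Nat.card G) p = false := by
  rw [← Bool.not_eq_true]
  intro hk
  simp only [killP, Bool.and_eq_true, beq_iff_eq, bne_iff_ne, ne_eq, List.all_eq_true,
    List.mem_range, Bool.or_eq_true, Bool.not_eq_true'] at hk
  obtain ⟨⟨h1, h2⟩, h3⟩ := hk
  have hn : Nat.card G = p * (Nat.card G / p) := (Nat.mul_div_cancel' (Nat.dvd_of_mod_eq_zero h1)).symm
  obtain ⟨np, e, c, d1, d2, d3, d4, d5, d6, d7, d8⟩ :=
    prime_data hG hp hn fun h => h2 (Nat.mod_eq_zero_of_dvd h)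
  have hpos : 0 < Nat.card G := Nat.card_pos
  have hd : np ∣ Nat.card G / p := ⟨e * c, Nat.eq_of_mul_eq_mul_left hp.pos (by
    rw [← hn, ← d1]; ring)⟩
  obtain ⟨j, j1, j2, rfl⟩ := exists_j (Nat.pos_of_ne_zero fun e => by rw [e] at hn; omega) hd d2 d3
  have he : e < p := lt_of_le_of_lt (Nat.le_of_dvd (by have := hp.two_le; omega) d4)
    (by have := hp.pos; omega)
  have h4 := ((h3 j j1).resolve_left (by simp [j2, Nat.mod_eq_zero_of_dvd hd])) e he
  have hc : Nat.card G / ((p * j + 1) * (e * p)) = c := by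
    have : 0 < (p * j + 1) * (e * p) := Nat.pos_of_ne_zero fun h => by
      rw [← mul_assoc e, ← mul_assoc, h] at d1; omega
    rw [← d1, ← mul_assoc e, ← mul_assoc, Nat.mul_div_cancel_left _ this]
  rw [hc, ← Bool.not_eq_true] at h4
  apply h4
  simp only [optP, Bool.and_eq_true, beq_iff_eq, bne_iff_ne, ne_eq, List.all_eq_true,
    List.any_eq_true, List.mem_range, Bool.or_eq_true, Bool.not_eq_true']
  refine ⟨⟨⟨⟨⟨d1, d5⟩, Nat.mod_eq_zero_of_dvd d4⟩, idxOK_of_dvd d6⟩, ?_⟩, fun q hq => ?_⟩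
  · refine or_iff_not_imp_right.mpr fun h => ?_
    rw [Bool.not_eq_false] at h
    simp only [three, Bool.and_eq_true, beq_iff_eq, bne_iff_ne, ne_eq, List.any_eq_true] at h
    obtain ⟨h5, r, hr, ⟨h6, h7⟩, h8⟩ := h
    obtain ⟨x, y, hx, hy, hxy⟩ := (Nat.dvd_mul.mp (Nat.dvd_of_mod_eq_zero h8))
    obtain ⟨a, -, rfl⟩ := (Nat.dvd_prime_pow Nat.prime_two).mp hx
    obtain ⟨b, -, rfl⟩ := (Nat.dvd_prime_pow (hL r hr)).mp hy
    exact d8 2 r a b Nat.prime_two (hL r hr) (Ne.symm h6) (Ne.symm h5) h7 hxy.symm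
  · refine or_iff_not_imp_left.mpr fun h => ?_
    obtain ⟨f, f1, f2, f3, f4⟩ := d7 q (hL q hq) (Nat.dvd_of_mod_eq_zero (not_not.mp h))
    exact ⟨f, f1, ⟨f2, f3⟩, or_iff_not_imp_left.mpr fun h => f4 (not_not.mp h)⟩

theorem not_killS (hG : ¬ IsMulCommutative G) {p : ℕ} (hp : p.Prime) (k : ℕ) :
    killS (Nat.card G) p k = false := by
  rw [← Bool.not_eq_true]
  intro hk
  simp only [killS, Bool.and_eq_true, beq_iff_eq, bne_iff_ne, ne_eq, List.all_eq_true,
    List.mem_range, Bool.or_eq_true, Bool.not_eq_true', decide_eq_true_eq] at hk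
  obtain ⟨⟨⟨h1, h2⟩, hk⟩, h3⟩ := hk
  have hn : Nat.card G = p ^ k * (Nat.card G / p ^ k) :=
    (Nat.mul_div_cancel' (Nat.dvd_of_mod_eq_zero h1)).symm
  obtain ⟨np, d1, d2, d3, d4, d5, d6, d7, d8⟩ :=
    sylow_data hG hp hk hn fun h => h2 (Nat.mod_eq_zero_of_dvd h)
  have hpos : 0 < Nat.card G := Nat.card_pos
  have hm : 0 < Nat.card G / p ^ k := Nat.pos_of_ne_zero fun e => by rw [e] at hn; omega
  obtain ⟨j, j1, j2, rfl⟩ := exists_j hm d1 d2 d3
  have h4 := (h3 j j1).resolve_left j2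
  generalize Nat.card G / p ^ k = m at *
  rw [← Bool.not_eq_true] at h4
  apply h4
  simp only [optS, Bool.and_eq_true, beq_iff_eq, bne_iff_ne, ne_eq,
    List.any_eq_true, List.mem_range, Bool.or_eq_true, decide_eq_true_eq]
  refine ⟨⟨⟨⟨⟨Nat.mod_eq_zero_of_dvd d1, idxOK_of_dvd d4⟩, or_iff_not_imp_left.mpr fun h =>
    d5 (not_not.mp h)⟩, ?_⟩, ?_⟩, ?_⟩
  · refine d6.imp_right fun ⟨b, a, b1, b2, b3, a1, a2, a3⟩ => ?_
    have hb : 0 < b := Nat.pos_of_dvd_of_pos b1 hm
    exact ⟨b, Nat.lt_succ_of_le (Nat.le_of_dvd hm b1), ⟨⟨Nat.mod_eq_zero_of_dvd b1, b2⟩,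
      idxOK_of_dvd b3⟩, a, Nat.lt_succ_of_le (Nat.le_of_dvd hb a3), ⟨a1, a2⟩,
      Nat.mod_eq_zero_of_dvd a3⟩
  · by_cases h : p * j + 1 = m
    · exact Or.inr fun e => d7 h (Nat.dvd_of_mod_eq_zero e)
    · exact Or.inl (Or.inl h)
  · by_cases e1 : k = 2
    · by_cases e2 : p = 2
      · exact Or.inl (Or.inl (Or.inl (Or.inr e2)))
      · by_cases e3 : m = 2 * (p * j + 1)
        · rcases d8 e1 e2 e3 with h | ⟨a, a1, a2, a3, a4, a5⟩
          · exact Or.inl (Or.inr h)
          · exact Or.inr ⟨a, Nat.lt_succ_of_le (le_trans (by omega) (Nat.le_of_dvd hm a3)),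
              ⟨⟨⟨a1, a2⟩, Nat.mod_eq_zero_of_dvd a3⟩, a4⟩, idxOK_of_dvd a5⟩
        · exact Or.inl (Or.inl (Or.inr e3))
    · exact Or.inl (Or.inl (Or.inl (Or.inl e1)))

theorem not_killed (hG : ¬ IsMulCommutative G) {L : List ℕ} (hL : ∀ p ∈ L, p.Prime) :
    killed L (Nat.card G) = false := by
  have hperf := isPerfect_of_simple hG
  have hns : ¬ Group.IsSolvable G := Group.IsPerfect.not_isSolvable G
  rw [← Bool.not_eq_true]
  intro hk
  simp only [killed, Bool.and_eq_true, beq_iff_eq, bne_iff_ne, ne_eq,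
    List.any_eq_true, Bool.or_eq_true] at hk
  rcases hk with ((⟨⟨h1, h2⟩, h3⟩ | ⟨r, hr, h⟩) | ⟨p, hp, h⟩) | ⟨p, hp, -, k, -, h⟩
  · rcases S0499.result hG (Nat.not_odd_iff_even.mp fun h => hns (S0205.result h)) with h | h | h
    exacts [h1 (Nat.mod_eq_zero_of_dvd h), h2 (Nat.mod_eq_zero_of_dvd h),
      h3 (Nat.mod_eq_zero_of_dvd h)]
  · exact hns (H5.isSolvable_of_card_dvd_prime_pow_mul Nat.prime_two (hL r hr)
      (Nat.dvd_of_mod_eq_zero h))
  · rw [not_killP hG hL (hL p hp)] at h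
    exact Bool.false_ne_true h
  · rw [not_killS hG (hL p hp)] at h
    exact Bool.false_ne_true h

def primes91 : List ℕ :=
  [2, 3, 5, 7, 11, 13, 17, 19, 23, 29, 31, 37, 41, 43, 47, 53, 59, 61, 67, 71, 73, 79, 83, 89]

theorem primes91_prime : ∀ p ∈ primes91, p.Prime := by
  simp only [primes91, List.forall_mem_cons, List.not_mem_nil, false_imp_iff, implies_true]
  norm_num

theorem sieve1092 : (List.range 1093).all (fun n => killed primes91 n ||
    [0, 60, 168, 360, 504, 660, 720, 1092].contains n) = true := by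
  decide +kernel

theorem card_le_1092 (hG : ¬ IsMulCommutative G) (h : Nat.card G ≤ 1092) :
    Nat.card G = 60 ∨ Nat.card G = 168 ∨ Nat.card G = 360 ∨ Nat.card G = 504 ∨ Nat.card G = 660 ∨
      Nat.card G = 720 ∨ Nat.card G = 1092 := by
  have h1 := List.all_eq_true.mp sieve1092 _ (List.mem_range.mpr (Nat.lt_succ_of_le h))
  rw [not_killed hG primes91_prime] at h1
  have h2 : 0 < Nat.card G := Nat.card_pos
  simp only [Bool.false_or, List.contains_eq_mem, List.mem_cons, List.not_mem_nil, or_false,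
    decide_eq_true_eq] at h1
  omega

end Sieve

end Cfsg.Agent.H18
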