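/-
Non-solvable groups with dihedral Sylow 2-subgroups, trivial core and a generalised dihedral
involution centraliser.
-/
import Cfsg.Agent.H22.GWGen
import Cfsg.Agent.H23.PGModel
import Cfsg.Agent.H23.PG
import Cfsg.Agent.H46.Standard
import Cfsg.Agent.H18.SmallCent

set_option autoImplicit false

namespace Cfsg.Agent.H18

open Subgroup Function
open scoped MatrixGroups

universe u

variable {G : Type u} [Group G] [Finite G]

theorem gw_model (hD : GW.Dihed G) (hO : pPrimeCore 2 G = ⊥) (hns : ¬ Group.IsSolvable G) :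
    (∃ (F : Type) (_ : Field F) (_ : Fintype F) (φ : G →* MulAut PSL(2, F)) (τ m p : ℕ),
      3 < Fintype.card F ∧ Injective φ ∧
      H23.PG (MulAut.conj : PSL(2, F) →* _).range (H23.Pgl.iota F).range H23.Pgl.torA τ m p ∧
      (MulAut.conj : PSL(2, F) →* _).range ≤ φ.range ∧
      ∀ v : G, v * v = 1 → φ v ∈ (H23.Pgl.iota F).range) ∨
    ∃ L : Subgroup G, L.Normal ∧ Odd L.index ∧ Nonempty (L ≃* alternatingGroup (Fin 7)) := by
  obtain ⟨L, hL, -, -, -, hC, ⟨F, _, _, h1, h2, ⟨e⟩⟩ | ⟨he, ho⟩⟩ := H22.gw_nonsolv hD hO hns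
  · obtain ⟨φ, hφ, -, hr⟩ := H22.exists_aut_embedding L hC e
    obtain ⟨τ, m, p, -, h⟩ := H23.Pgl.exists_pg F (by rwa [Nat.card_eq_fintype_card])
      (by rwa [Nat.card_eq_fintype_card])
    have hle : (MulAut.conj : PSL(2, F) →* _).range ≤ φ.range := hr ▸ map_le_range φ L
    refine Or.inl ⟨F, _, _, φ, τ, m, p, h2, hφ, h, hle, fun v hv => ?_⟩
    by_contra hn
    obtain ⟨a, ha, b, hb, a2, b2, a1, b1, ab, c, ca, cb⟩ :=
      h.field_two _ hn (by rw [← map_mul, hv, map_one])
    obtain ⟨a, rfl⟩ := hle ha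
    obtain ⟨b, rfl⟩ := hle hb
    rw [← map_mul, ← map_one φ, hφ.eq_iff] at a2 b2
    rw [← map_mul, ← map_mul, hφ.eq_iff] at c ca cb
    have ha2 := GW.inv_of_mul_self a2 fun e => a1 (by rw [e, map_one])
    have hb2 := GW.inv_of_mul_self b2 fun e => b1 (by rw [e, map_one])
    have := map_le_iff_le_comap.2 (GW.four_le (X := (H23.Pgl.iota F).range.comap φ)
      (h.L_le ha) (h.L_le hb))
    exact hn (this ⟨v, hD.mem_four ha2 ⟨hb2, fun e => ab (by rw [e]), c⟩ hv ca cb, rfl⟩)
  · exact Or.inr ⟨L, inferInstance, ho, he⟩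

omit [Finite G] in
theorem mem_of_odd_index {L : Subgroup G} [L.Normal] (ho : Odd L.index) {v : G} (hv : v * v = 1) :
    v ∈ L :=
  H23.mem_of_odd_of_sq_mem ho (L.pow_index_mem v) (hv ▸ one_mem L)

theorem psl_or_pgl (hD : GW.Dihed G) (hO : pPrimeCore 2 G = ⊥) (hns : ¬ Group.IsSolvable G)
    {j s : G} (hj : orderOf j = 2) {A : Subgroup G} (hA : ∀ a ∈ A, ∀ b ∈ A, a * b = b * a)
    (out : ∀ x, x * j = j * x → x ∉ A → x * x = 1) (hs : s * j = j * s) (hsA : s ∉ A) :
    ∃ (F : Type) (_ : Field F) (_ : Fintype F), 3 < Fintype.card F ∧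
      (Nonempty (G ≃* PSL(2, F)) ∨ Nonempty (G ≃* PGL(2, F))) := by
  have gen : ∀ X : Subgroup G, (∀ v, v * v = 1 → v ∈ X) → ∀ x, x * j = j * x → x ∈ X := by
    intro X hX x hx
    by_cases hxA : x ∈ A
    · have := mul_mem (hX _ (out (x * s) (Commute.mul_left hx hs)
        (by rwa [mul_mem_cancel_left hxA]))) (inv_mem (hX s (out s hs hsA)))
      rwa [mul_inv_cancel_right] at this
    · exact hX x (out x hx hxA)
  have jj := GW.mul_self_of_inv hj
  rcases gw_model hD hO hns with ⟨F, _, _, φ, τ, m, p, h3, hφ, h, hle, hP⟩ | ⟨L, _, ho, ⟨e⟩⟩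
  · have hB : φ.range ≤ (H23.Pgl.iota F).range := by
      rintro _ ⟨g, rfl⟩
      have h1 := hP j jj
      have h2 := hP _ (H42.conj_mul_self jj g)
      have n1 : ∀ {x : G}, x ≠ 1 → φ x ≠ 1 := fun hx e => hx (hφ (by rw [e, map_one]))
      obtain ⟨l, hl, e⟩ := h.conj_inv _ h1 (by rw [← map_mul, jj, map_one])
        (n1 (GW.ne_one_of_inv hj)) _ h2 (by rw [← map_mul, H42.conj_mul_self jj, map_one])
        (n1 (GW.ne_one_of_inv (GW.orderOf_conj_inv hj g))) (by
          rw [h.mul_mem_L h1 h2, map_mul, map_mul, map_inv]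
          exact ⟨fun c => h.L_normal.conj_mem _ c _, fun c => by
            have := h.L_normal.mem_comm c
            rwa [inv_mul_cancel_left] at this⟩)
      obtain ⟨l, rfl⟩ := hle hl
      rw [← map_inv, ← map_mul, ← map_mul, hφ.eq_iff] at e
      have := gen ((H23.Pgl.iota F).range.comap φ) hP (l⁻¹ * g) (by
        calc l⁻¹ * g * j = l⁻¹ * (g * j * g⁻¹) * g := by group
          _ = _ := by rw [← e]; group)
      have := mul_mem (h.L_le hl) this
      rwa [← map_mul, mul_inv_cancel_left] at this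
    refine ⟨F, inferInstance, inferInstance, h3, ?_⟩
    by_cases hc : φ.range ≤ (MulAut.conj : PSL(2, F) →* _).range
    · refine Or.inl ⟨((MonoidHom.ofInjective hφ).trans (MulEquiv.subgroupCongr
        ((le_antisymm hc hle).trans H23.Pgl.map_pslIn.symm))).trans ((H28.pslEquiv F).trans
          (equivMapOfInjective _ _ H23.Pgl.iota_inj)).symm⟩
    · obtain ⟨x, hx, hx'⟩ := SetLike.not_le_iff_exists.1 hc
      exact Or.inr ⟨((MonoidHom.ofInjective hφ).trans (MulEquiv.subgroupCongr (le_antisymm hB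
        (H42.le_of_inf_le_of_relIndex_two h.relIndex le_rfl (hB hx) hx' hx
          (inf_le_right.trans hle))))).trans (MonoidHom.ofInjective H23.Pgl.iota_inj).symm⟩
  · exfalso
    let j' : L := ⟨j, mem_of_odd_index ho jj⟩
    obtain ⟨g, hg⟩ := H23.A7.conj_inv H23.A7.t2 H23.A7.t1 (v := e j')
      (by rw [← map_mul, show j' * j' = 1 from Subtype.ext jj, map_one])
      fun c => GW.ne_one_of_inv hj (congrArg Subtype.val (e.injective (c.trans (map_one e).symm)))
    let ψ : alternatingGroup (Fin 7) →* G :=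
      L.subtype.comp (e.symm.toMonoidHom.comp (MulAut.conj g).toMonoidHom)
    have hψ : Injective ψ := L.subtype_injective.comp (e.symm.injective.comp (MulAut.conj g).injective)
    have ht : ψ H23.A7.t = j := congrArg Subtype.val (show e.symm (g * _ * g⁻¹) = j' by
      rw [hg, e.symm_apply_apply])
    have key : ∀ x, x * H23.A7.t = H23.A7.t * x → x * x ≠ 1 → ψ x ∈ A := fun x c x2 => by
      by_contra hn
      exact x2 (hψ (by
        rw [map_mul, map_one]; exact out _ (by rw [← ht, ← map_mul, c, map_mul]) hn))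
    have := hA _ (key H23.A7.c (Subtype.ext (by decide))
      fun c => absurd (congrArg Subtype.val c) (by decide)) _
      (key (H23.A7.s * H23.A7.r) (Subtype.ext (by decide))
        fun c => absurd (congrArg Subtype.val c) (by decide))
    rw [← map_mul, ← map_mul, hψ.eq_iff] at this
    exact absurd (congrArg Subtype.val this) (by decide)

theorem not_eight_dvd (hD : GW.Dihed G) (hO : pPrimeCore 2 G = ⊥) (hns : ¬ Group.IsSolvable G)
    {v : G} (hv : orderOf v = 2) (hc : Nat.card (centralizer ({v} : Set G)) ≤ 4) :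
    ¬ 8 ∣ Nat.card G := by
  intro h8
  have : Fact (Nat.Prime 2) := ⟨Nat.prime_two⟩
  have vv := GW.mul_self_of_inv hv
  have key : ∀ L : Subgroup G, L.Normal → v ∈ L →
      (∀ z ∈ L, orderOf z = 2 → ∃ g, g * v * g⁻¹ = z) → False := by
    intro L hL hvL hz
    obtain ⟨S, hS⟩ := (IsPGroup.of_card (n := 1) (G := zpowers v)
      (by rw [Nat.card_zpowers, hv, pow_one])).exists_le_sylow
    obtain ⟨z, hz1, hz2, hz3⟩ := H46.exists_involution_centralized (U := (S : Subgroup G) ⊓ L)
      (T := S) S.isPGroup'.to_inf_left (fun e => GW.ne_one_of_inv hv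
        (mem_bot.1 (e ▸ mem_inf.2 ⟨hS (mem_zpowers v), hvL⟩))) S.isPGroup'
      fun g hg => H42.mem_normalizer_of_conj_mem fun x hx =>
        mem_inf.2 ⟨mul_mem (mul_mem hg (mem_inf.1 hx).1) (inv_mem hg), hL.conj_mem _ hx.2 g⟩
    obtain ⟨g, rfl⟩ := hz z hz1.2 hz2
    have h1 := card_le_of_le (show (S : Subgroup G) ≤ centralizer {g * v * g⁻¹} from
      fun x hx => mem_centralizer_singleton_iff.2 (hz3 x hx))
    rw [card_cent_conj] at h1
    have h2 : 8 ∣ Nat.card (S : Subgroup G) := by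
      rw [← (S : Subgroup G).card_mul_index] at h8
      exact (Nat.Coprime.pow_left 3 (Nat.prime_two.coprime_iff_not_dvd.2
        S.not_dvd_index)).dvd_of_dvd_mul_right h8
    have := Nat.le_of_dvd Nat.card_pos h2
    omega
  rcases gw_model hD hO hns with ⟨F, _, _, φ, τ, m, p, h3, hφ, h, hle, hP⟩ | ⟨L, _, ho, ⟨e⟩⟩
  · have n1 : ∀ {x : G}, x ≠ 1 → φ x ≠ 1 := fun hx e => hx (hφ (by rw [e, map_one]))
    have v2 : φ v * φ v = 1 := by rw [← map_mul, vv, map_one]
    have v1 := n1 (GW.ne_one_of_inv hv)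
    by_cases hL : φ v ∈ (MulAut.conj : PSL(2, F) →* _).range
    · refine key _ (h.L_normal.comap φ) hL fun z hz z2 => ?_
      obtain ⟨l, hl, e⟩ := h.conj_inv _ (hP v vv) v2 v1 _ (h.L_le hz)
        (by rw [← map_mul, GW.mul_self_of_inv z2, map_one]) (n1 (GW.ne_one_of_inv z2))
        (mul_mem hL hz)
      obtain ⟨l, rfl⟩ := hle hl
      exact ⟨l, hφ (by rwa [map_mul, map_mul, map_inv])⟩
    · have h1 : H23.Pgl.torA (φ v) ≤ (centralizer ({v} : Set G)).map φ := by
        have h2 : H23.Pgl.torA (φ v) ≤ φ.range :=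
          H42.le_of_inf_le_of_relIndex_two h.relIndex (h.tor_le _ (hP v vv)) (h.self_mem _ (hP v vv))
            hL ⟨v, rfl⟩ (inf_le_right.trans hle)
        intro y hy
        obtain ⟨y, rfl⟩ := h2 hy
        exact ⟨y, mem_centralizer_singleton_iff.2 (hφ (by
          rw [map_mul, map_mul]; exact h.comm_of_mem _ (hP v vv) _ hy)), rfl⟩
      have h2 := card_le_of_le h1
      rw [card_map_of_injective hφ, h.card_tor_eq (hP v vv) v2 v1,
        h.card_T_of_not_mem (hP v vv) v2 v1 hL] at h2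
      have := h.three_le
      omega
  · refine key L inferInstance (mem_of_odd_index ho vv) fun z hz z2 => ?_
    have a : ∀ w : L, orderOf (w : G) = 2 → e w * e w = 1 ∧ e w ≠ 1 := fun w hw =>
      ⟨by rw [← map_mul, show w * w = 1 from Subtype.ext (GW.mul_self_of_inv hw), map_one],
        fun c => GW.ne_one_of_inv hw (congrArg Subtype.val (e.injective (c.trans (map_one e).symm)))⟩
    obtain ⟨g, hg⟩ := H23.A7.conj_inv (a ⟨v, mem_of_odd_index ho vv⟩ hv).1 (a ⟨v, _⟩ hv).2
      (a ⟨z, hz⟩ z2).1 (a ⟨z, hz⟩ z2).2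
    obtain ⟨g, rfl⟩ := e.surjective g
    rw [← map_inv, ← map_mul, ← map_mul, e.apply_eq_iff_eq] at hg
    exact ⟨g, congrArg Subtype.val hg⟩

end Cfsg.Agent.H18
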