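/-
Generalised dihedral involution centralisers: set-up and the case of a cyclic rotation Sylow
2-subgroup.
-/
import Cfsg.Agent.H18.DG1
import Cfsg.Agent.H42.QD
import Cfsg.Agent.H42.Isolated
import Cfsg.Agent.H69.UniqueP
import Cfsg.Agent.H1.UniqueSub
import Cfsg.Agent.S0215

set_option autoImplicit false
set_option linter.unusedSectionVars false

namespace Cfsg.Agent.H18

open Subgroup Function
open scoped MatrixGroups

universe u

variable {G : Type u} [Group G] [Finite G]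

/-- `H` is generalised dihedral with rotation subgroup `A` and is the centraliser of every
involution of `A`. -/
structure DH (H A : Subgroup G) : Prop where
  le : A ≤ H
  idx : A.relIndex H = 2
  out : ∀ x ∈ H, x ∉ A → x * x = 1
  cent : ∀ j ∈ A, orderOf j = 2 → centralizer ({j} : Set G) = H

theorem exists_conj_of_map_eq {G' : Type*} [Group G'] (f : G →* G') (hk : Odd (Nat.card f.ker))
    {s t : G} (hs : s * s = 1) (ht : t * t = 1) (e : f s = f t) :
    ∃ n ∈ f.ker, n * s * n⁻¹ = t := by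
  have h1 : t * s ∈ f.ker := by rw [MonoidHom.mem_ker, map_mul, ← e, ← map_mul, hs, map_one]
  obtain ⟨k, hk⟩ := H42.exists_pow_conj_of_odd hs ht (H23.odd_orderOf_of_mem hk h1)
  exact ⟨_, pow_mem h1 k, hk⟩

theorem exists_inv_lift {G' : Type*} [Group G'] (f : G →* G') (hk : Odd (Nat.card f.ker))
    {a : G} (ha : orderOf (f a) = 2) : ∃ n : ℕ, orderOf (a ^ n) = 2 ∧ f (a ^ n) = f a := by
  have h1 : a * a ∈ f.ker := by rw [MonoidHom.mem_ker, map_mul, GW.mul_self_of_inv ha]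
  obtain ⟨k, hk⟩ := H23.odd_orderOf_of_mem hk h1
  have e : f (a ^ (2 * k + 1)) = f a := by
    rw [map_pow, pow_succ, pow_mul, sq, GW.mul_self_of_inv ha, one_pow, one_mul]
  refine ⟨2 * k + 1, GW.inv_of_mul_self ?_ fun c => GW.ne_one_of_inv ha ?_, e⟩
  · rw [← (Commute.refl a).mul_pow, ← hk, pow_orderOf_eq_one]
  · rw [← e, c, map_one]

namespace DH

variable {H A : Subgroup G} (h : DH H A)
include h

omit [Finite G] in
theorem exists_out : ∃ s ∈ H, s ∉ A := by
  by_contra! c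
  have := h.idx
  rw [relIndex_eq_one.2 c] at this
  omega

omit [Finite G] in
theorem inverts {s a : G} (hs : s ∈ H) (hsA : s ∉ A) (ha : a ∈ A) : s * a * s⁻¹ = a⁻¹ := by
  rw [inv_eq_of_mul_eq_one_right (h.out s hs hsA), eq_inv_iff_mul_eq_one, mul_assoc (s * a)]
  exact h.out _ (mul_mem hs (h.le ha)) (by rwa [mul_mem_cancel_right ha])

omit [Finite G] in
theorem comm {a b : G} (ha : a ∈ A) (hb : b ∈ A) : a * b = b * a := by
  obtain ⟨s, hs, hsA⟩ := h.exists_out
  have := h.inverts hs hsA (mul_mem ha hb)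
  rw [← conj_mul, h.inverts hs hsA ha, h.inverts hs hsA hb, ← mul_inv_rev, inv_inj] at this
  exact this.symm

omit [Finite G] in
theorem mem_iff {j g : G} (hj : j ∈ A) (j2 : orderOf j = 2) : g ∈ H ↔ g * j = j * g := by
  rw [← h.cent j hj j2, mem_centralizer_singleton_iff]

omit [Finite G] in
theorem sq_of_comm {s a : G} (hs : s ∈ H) (hsA : s ∉ A) (ha : a ∈ A) (c : s * a = a * s) :
    a * a = 1 := by
  have := h.inverts hs hsA ha
  rw [c, mul_inv_cancel_right] at this
  exact mul_eq_one_iff_eq_inv.2 this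

theorem map {G' : Type u} [Group G'] (f : G →* G') (hf : Surjective f)
    (hk : Odd (Nat.card f.ker)) : DH (H.map f) (A.map f) := by
  have key : ∀ x ∈ H, f x ∈ A.map f → x ∈ A := by
    rintro x hx ⟨a, ha, e⟩
    have h1 : a⁻¹ * x ∈ f.ker := by rw [MonoidHom.mem_ker, map_mul, map_inv, e, inv_mul_cancel]
    by_contra c
    have := H23.eq_one_of_odd_of_sq (H23.odd_orderOf_of_mem hk h1)
      (h.out _ (mul_mem (inv_mem (h.le ha)) hx) (by rwa [mul_mem_cancel_left (inv_mem ha)]))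
    exact c (inv_mul_eq_one.1 this ▸ ha)
  refine ⟨map_mono h.le, ?_, ?_, ?_⟩
  · obtain ⟨s, hs, hsA⟩ := h.exists_out
    refine relIndex_eq_two_iff.2 ⟨f s, ⟨s, hs, rfl⟩, ?_⟩
    rintro _ ⟨b, hb, rfl⟩
    rw [← map_mul]
    by_cases c : b ∈ A
    · exact Or.inr ⟨⟨b, c, rfl⟩, fun e => hsA
        ((mul_mem_cancel_left c).1 (key _ (mul_mem hb hs) e))⟩
    · exact Or.inl ⟨⟨_, (H42.mul_mem_iff_of_relIndex_two h.idx hb hs).2 (iff_of_false c hsA), rfl⟩,
        fun e => c (key _ hb e)⟩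
  · rintro _ ⟨x, hx, rfl⟩ c
    rw [← map_mul, h.out x hx fun e => c ⟨x, e, rfl⟩, map_one]
  · rintro _ ⟨a, ha, rfl⟩ a2
    obtain ⟨n, j2, e⟩ := exists_inv_lift f hk a2
    have hj := pow_mem ha n
    have jj := GW.mul_self_of_inv j2
    rw [← e]
    refine le_antisymm (fun g hg => ?_) ?_
    · obtain ⟨g, rfl⟩ := hf g
      obtain ⟨k, hk, e⟩ := exists_conj_of_map_eq f hk jj (H42.conj_mul_self jj g) (by
        rw [map_mul, map_mul, mem_centralizer_singleton_iff.1 hg, map_inv, mul_inv_cancel_right])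
      refine ⟨k⁻¹ * g, (h.mem_iff hj j2).2 ?_, by
        rw [map_mul, map_inv, MonoidHom.mem_ker.1 hk, inv_one, one_mul]⟩
      calc k⁻¹ * g * a ^ n = k⁻¹ * (g * a ^ n * g⁻¹) * g := by group
        _ = _ := by rw [← e]; group
    · rintro _ ⟨g, hg, rfl⟩
      rw [mem_centralizer_singleton_iff, ← map_mul, (h.mem_iff hj j2).1 hg, map_mul]

section unique

variable {j : G} (hj : j ∈ A) (j2 : orderOf j = 2) (uniq : ∀ v ∈ A, orderOf v = 2 → v = j)
include hj j2 uniq

omit [Finite G] h hj in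
theorem mem_zpowers_j {a : G} (ha : a ∈ A) (a2 : a * a = 1) : a ∈ zpowers j := by
  by_cases a1 : a = 1
  · exact a1 ▸ one_mem _
  · exact uniq a ha (GW.inv_of_mul_self a2 a1) ▸ mem_zpowers a

omit hj in
theorem card_le_four {X : Subgroup G} (hX : X ≤ H) {z : G} (hz : z ∈ X) (hzA : z ∉ A)
    (c : ∀ x ∈ X, x * z = z * x) : Nat.card X ≤ 4 := by
  have h1 := card_le_of_le (show X ⊓ A ≤ zpowers j from fun a ha =>
    mem_zpowers_j j2 uniq ha.2 (h.sq_of_comm (hX hz) hzA ha.2 (c a ha.1).symm))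
  rw [Nat.card_zpowers, j2] at h1
  rw [H42.card_eq_two_mul_card_inf h.idx hX hz hzA]
  omega

theorem not_qd (hO : pPrimeCore 2 G = ⊥) (hns : ¬ Group.IsSolvable G) (S : Sylow 2 G)
    (hP : H42.SylIn 2 ((S : Subgroup G) ⊓ H) H) (hjS : j ∈ (S : Subgroup G))
    (hS : ¬ (S : Subgroup G) ≤ H) {k : ℕ} {x y : G} (q : H42.QD (S : Subgroup G) k x y) :
    False := by
  have : Fact (Nat.Prime 2) := ⟨Nat.prime_two⟩
  have hzS := q.A_le (H42.QD.z_mem (k := k) (x := x))
  have hzH : H42.qz k x ∈ H := (h.mem_iff hj j2).2 (q.z_comm hjS).symm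
  have hzA : H42.qz k x ∉ A := fun c => hS fun s hs => (h.mem_iff c q.ord_z).2 (q.z_comm hs)
  have h4 := h.card_le_four j2 uniq (X := (S : Subgroup G) ⊓ H) inf_le_right ⟨hzS, hzH⟩ hzA
    fun s hs => q.z_comm hs.1
  have h16 : Nat.card (S : Subgroup G) = 16 * 2 ^ k := by rw [q.card]; ring
  have hpos : 0 < 2 ^ k := by positivity
  obtain ⟨N, hN, ho, hc⟩ := S0215.result S _ q.ord_z hzS fun g hg => by
    rcases q.involution_cases hg (GW.orderOf_conj_inv q.ord_z g) with e | ⟨a, -, e⟩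
    · exact e
    exfalso
    obtain ⟨b, -, e'⟩ := (q.involution_cases hjS j2).resolve_left fun c => hzA (c ▸ hj)
    have e3 : j = (b⁻¹ * a * g) * H42.qz k x * (b⁻¹ * a * g)⁻¹ := by
      calc j = b⁻¹ * (b * j * b⁻¹) * b := by group
        _ = _ := by rw [e', ← e]; group
    obtain ⟨w, -, hw⟩ := hP.exists_conj (H42.isPGroup_cj (b⁻¹ * a * g) S.isPGroup') (by
      rintro _ ⟨s, hs, rfl⟩
      rw [h.mem_iff hj j2, e3]
      simp only [MulEquiv.coe_toMonoidHom, MulAut.conj_apply, conj_mul, q.z_comm hs])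
    have := card_le_of_le (H42.cj_le_iff.2 hw)
    rw [H42.card_cj, H42.card_cj] at this
    omega
  rw [H8.core_eq_bot_iff.1 hO N hN ho] at hc
  have hZ : H42.qz k x ∈ center G := mem_center_iff.2 fun g => by
    have := mem_bot.1 (hc g)
    rw [mul_inv_eq_one, mul_inv_eq_iff_eq_mul] at this
    exact this.symm
  have hH := h.card_le_four j2 uniq le_rfl hzH hzA fun g _ => mem_center_iff.1 hZ g
  have := H8.normal_zpowers_of_central hZ
  have hZ2 : IsPGroup 2 (zpowers (H42.qz k x)) :=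
    IsPGroup.of_card (n := 1) (by rw [Nat.card_zpowers, q.ord_z, pow_one])
  set π := QuotientGroup.mk' (zpowers (H42.qz k x))
  have hπ : Surjective π := QuotientGroup.mk'_surjective _
  have hker : ∀ g, π g = 1 → g ∈ zpowers x := fun g hg =>
    zpowers_le.2 H42.QD.z_mem ((QuotientGroup.eq_one_iff g).1 hg)
  have hD : GW.Dihed (G ⧸ zpowers (H42.qz k x)) := by
    obtain ⟨e⟩ := H42.dihedral_recog (a := π x) (b := π y) (orderOf_pos _).ne' rfl
      (by rw [← map_mul, q.yy, map_one]) (by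
        have := q.conj_zpow' q.hy q.y_notMem 1
        simp only [zpow_one] at this
        rw [← map_inv, ← map_mul, ← map_mul, this, map_mul, map_inv,
          (QuotientGroup.eq_one_iff _).2 (mem_zpowers _) |> fun e : π _ = 1 => e, mul_one])
      (fun ⟨i, hi⟩ => q.y_notMem (by
        have := hker (y⁻¹ * x ^ i) (by rw [map_mul, map_inv, map_zpow, ← hi, inv_mul_cancel])
        rwa [mul_mem_cancel_right (zpow_mem (mem_zpowers x) i), inv_mem_iff] at this))
    refine ⟨S.mapSurjective hπ, orderOf (π x), ?_, ⟨(MulEquiv.subgroupCongr ?_).trans e⟩⟩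
    · by_contra c
      have h1 : π x = 1 := orderOf_eq_one_iff.1 (by have := orderOf_pos (π x); omega)
      have := orderOf_dvd_of_mem_zpowers ((QuotientGroup.eq_one_iff x).1 h1)
      rw [q.ord_z, q.ordx'] at this
      have := Nat.le_of_dvd two_pos this
      omega
    · rw [Sylow.coe_mapSurjective, ← MonoidHom.map_zpowers, ← MonoidHom.map_zpowers, ← Subgroup.map_sup,
        ← inf_eq_right.2 q.A_le, ← H42.eq_inf_sup_zpowers q.relIndex le_rfl q.hy q.y_notMem]
  refine not_eight_dvd hD (H8.core_quotient_central_eq_bot hO _ (zpowers_le.2 hZ) hZ2)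
    (fun c => hns ((Group.isSolvable_iff_subgroup_quotient _).2 ⟨GW.solvable_zpowers _, c⟩))
    (v := π j) (GW.inv_of_mul_self (by rw [← map_mul, GW.mul_self_of_inv j2, map_one]) fun c => ?_)
    ((H4.card_centralizer_quotient_le _ j).trans (h.cent j hj j2 ▸ hH)) ?_
  · rcases (GW.mem_zpowers_of_inv q.ord_z).1 ((QuotientGroup.eq_one_iff j).1 c) with e | e
    · exact GW.ne_one_of_inv j2 e
    · exact hzA (e ▸ hj)
  · have h1 := card_eq_card_quotient_mul_card_subgroup (zpowers (H42.qz k x))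
    have h2 := card_subgroup_dvd_card (S : Subgroup G)
    rw [Nat.card_zpowers, q.ord_z] at h1
    rw [h16, h1] at h2
    exact Nat.dvd_of_mul_dvd_mul_right two_pos ((Dvd.intro _ rfl : 8 * 2 ∣ _).trans h2)

theorem dihed (hO : pPrimeCore 2 G = ⊥) (hns : ¬ Group.IsSolvable G) : GW.Dihed G := by
  have : Fact (Nat.Prime 2) := ⟨Nat.prime_two⟩
  obtain ⟨P, hP, hjP⟩ := H42.exists_sylIn (p := 2) (R := zpowers j) (H := H)
    (IsPGroup.of_card (n := 1) (by rw [Nat.card_zpowers, j2, pow_one])) (zpowers_le.2 (h.le hj))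
  obtain ⟨S, hS⟩ := hP.isP.exists_le_sylow
  have hjS : j ∈ (S : Subgroup G) := hS (hjP (mem_zpowers j))
  have hP' : H42.SylIn 2 ((S : Subgroup G) ⊓ H) H :=
    hP.of_le_of_isPGroup (le_inf hS hP.le) inf_le_right S.isPGroup'.to_inf_left
  by_cases hSH : (S : Subgroup G) ≤ H
  · obtain ⟨s, hs, hsA⟩ : ∃ s ∈ (S : Subgroup G), s ∉ A := by
      by_contra! c
      exact (H42.sylIn_of_le S hSH).ndvd (h.idx.symm.dvd.trans (relIndex_dvd_of_le_left H c))
    obtain ⟨a, ha, e⟩ := H1.exists_zpowers_eq_of_comm (p := 2) ((S : Subgroup G) ⊓ A)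
      S.isPGroup'.to_inf_left (fun x hx y hy => h.comm hx.2 hy.2) fun x hx y hy x2 y2 => by
        rw [uniq x hx.2 x2]; exact mem_zpowers_j j2 uniq hy.2 (by rwa [← sq])
    obtain ⟨f⟩ := H42.dihedral_recog (orderOf_pos a).ne' rfl (h.out s (hSH hs) hsA)
      (h.inverts (hSH hs) hsA ha.2) fun c => hsA (e ▸ c : s ∈ (S : Subgroup G) ⊓ A).2
    refine ⟨S, orderOf a, ?_, ⟨(MulEquiv.subgroupCongr ?_).trans f⟩⟩
    · exact j2 ▸ Nat.le_of_dvd (orderOf_pos a) (orderOf_dvd_of_mem_zpowers (e ▸ ⟨hjS, hj⟩))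
    · rw [e]; exact H42.eq_inf_sup_zpowers h.idx hSH hs hsA
  · obtain ⟨z, hz, z2, hc⟩ := H46.exists_involution_centralized (U := (S : Subgroup G)) (T := S)
      S.isPGroup' (fun e => hSH (e ▸ bot_le)) S.isPGroup' le_normalizer
    have hzH : z ∈ H := (h.mem_iff hj j2).2 (hc j hjS).symm
    have hzA : z ∉ A := fun c => hSH fun s hs => (h.mem_iff c z2).2 (hc s hs)
    have h4 := h.card_le_four j2 uniq (X := (S : Subgroup G) ⊓ H) inf_le_right ⟨hz, hzH⟩ hzA
      fun s hs => hc s hs.1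
    have nq : ¬ (IsCyclic (S : Subgroup G) ∨
        ∃ n : ℕ, Nonempty ((S : Subgroup G) ≃* QuaternionGroup n)) := fun c => by
      obtain ⟨i, hi⟩ := H69.mem_zpowers_of_cyclic_or_quaternion S.isPGroup' c (x := ⟨j, hjS⟩)
        (y := ⟨z, hz⟩) (fun e => GW.ne_one_of_inv j2 (congrArg Subtype.val e))
        (Subtype.ext ((sq j).trans (GW.mul_self_of_inv j2)))
        (Subtype.ext ((sq z).trans (GW.mul_self_of_inv z2)))
      have e : j ^ i = z := congrArg Subtype.val hi
      exact hzA (e ▸ zpow_mem hj i)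
    rcases two_group_cases S.isPGroup' ⟨j, hjS⟩ (le_trans (by
      rw [← card_map_of_injective (S : Subgroup G).subtype_injective]
      refine card_le_of_le ?_
      rintro _ ⟨x, hx, rfl⟩
      exact ⟨x.2, (h.mem_iff hj j2).2
        (congrArg Subtype.val (mem_centralizer_singleton_iff.1 hx))⟩) h4) with
      c | ⟨n, hn, e⟩ | ⟨n, e⟩ | c
    · exact absurd (Or.inl c) nq
    · exact ⟨S, n, hn, e⟩
    · exact absurd (Or.inr ⟨_, e⟩) nq
    · obtain ⟨k, x, y, q⟩ := H42.QD.of_isQuasiDihedral c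
      exact (h.not_qd hj j2 uniq hO hns S hP' hjS hSH q).elim

theorem caseC (hO : pPrimeCore 2 G = ⊥) (hns : ¬ Group.IsSolvable G) :
    ∃ (F : Type) (_ : Field F) (_ : Fintype F), 3 < Fintype.card F ∧
      (Nonempty (G ≃* PSL(2, F)) ∨ Nonempty (G ≃* PGL(2, F))) := by
  obtain ⟨s, hs, hsA⟩ := h.exists_out
  exact psl_or_pgl (h.dihed hj j2 uniq hO hns) hO hns j2 (fun a ha b hb => h.comm ha hb)
    (fun x hx => h.out x ((h.mem_iff hj j2).2 hx)) ((h.mem_iff hj j2).1 hs) hsA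

end unique

end DH

end Cfsg.Agent.H18
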