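/-
Generalised dihedral involution centralisers: the case of a non-cyclic rotation Sylow 2-subgroup.
-/
import Cfsg.Agent.H18.DG2
import Cfsg.Agent.H18.Transfer2
import Cfsg.Agent.H8.CCAb
import Cfsg.Agent.H8.SL2Even
import Cfsg.Agent.S1221

set_option autoImplicit false
set_option linter.unusedSectionVars false

namespace Cfsg.Agent.H18

open Subgroup Function
open scoped MatrixGroups

universe u

variable {G : Type u} [Group G] [Finite G]

theorem not_normal_of_abelian (hns : ¬ Group.IsSolvable G) {A : Subgroup G}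
    (hA : ∀ a ∈ A, ∀ b ∈ A, a * b = b * a) (ho : Odd A.index) : ¬ A.Normal := fun _ =>
  hns ((Group.isSolvable_iff_subgroup_quotient A).2
    ⟨Group.isSolvable_of_comm fun a b => Subtype.ext (hA _ a.2 _ b.2), S0205.result ho⟩)

/-- abelian involution centralisers -/
theorem sl2_of_abelian_cent (hO : pPrimeCore 2 G = ⊥) (hns : ¬ Group.IsSolvable G) {A : Subgroup G}
    (hA : ∀ a ∈ A, ∀ b ∈ A, a * b = b * a) (ho : Odd A.index)
    (hc : ∀ j ∈ A, orderOf j = 2 → centralizer ({j} : Set G) = A) {j j' : G} (hj : j ∈ A)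
    (hj' : j' ∈ A) (j2 : orderOf j = 2) (j2' : orderOf j' = 2) (hne : j ≠ j') :
    ∃ (K : Type) (_ : Field K) (_ : Fintype K), CharP K 2 ∧ Fintype.card K = Nat.card A ∧
      Nonempty (G ≃* SL(2, K)) := by
  have hn := not_normal_of_abelian hns hA ho
  have hinv : ∀ v ∈ normalizer (A : Set G), orderOf v = 2 → v ∈ A := fun v hv v2 =>
    mem_of_odd_index (L := A.subgroupOf (normalizer (A : Set G))) (v := ⟨v, hv⟩)
      (ho.of_dvd_nat (relIndex_dvd_index_of_le le_normalizer))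
      (Subtype.ext (GW.mul_self_of_inv v2))
  have hS : IsStronglyEmbedded (normalizer (A : Set G)) := by
    refine ⟨fun e => hn (normalizer_eq_top_iff.1 e), ?_, fun g hg => ?_⟩
    · exact even_iff_two_dvd.2 (j2 ▸ (normalizer (A : Set G)).orderOf_dvd_natCard (le_normalizer hj))
    · by_contra c
      obtain ⟨v, ⟨h1, h2⟩, v2⟩ := H8.exists_involution_of_even _ (Nat.not_odd_iff_even.1 c)
      have h3 : orderOf (g⁻¹ * v * g) = 2 := by simpa using GW.orderOf_conj_inv v2 g⁻¹
      have h4 := hc _ (hinv _ (H42.mem_cj.1 h2) h3) h3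
      have h5 := hc v (hinv v h1 v2) v2
      refine hg (H42.mem_normalizer_of_conj_mem fun x hx => ?_)
      rw [← h4, mem_centralizer_singleton_iff] at hx
      rw [← h5, mem_centralizer_singleton_iff]
      calc g * x * g⁻¹ * v = g * (x * (g⁻¹ * v * g)) * g⁻¹ := by group
        _ = _ := by rw [hx]; group
  have h1 : ∀ b ∈ A, Odd (orderOf b) → b = 1 := fun b hb bo => by
    let B : Subgroup (normalizer (A : Set G)) :=
      { carrier := {x | (x : G) ∈ A ∧ Odd (orderOf (x : G))}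
        one_mem' := ⟨one_mem _, by simp⟩
        inv_mem' := fun hx => ⟨inv_mem hx.1, by simpa using hx.2⟩
        mul_mem' := fun hx hy => ⟨mul_mem hx.1 hy.1, (hx.2.mul hy.2).of_dvd_nat
          (Commute.orderOf_mul_dvd_mul_orderOf (hA _ hx.1 _ hy.1))⟩ }
    have hB : B ≤ pPrimeCore 2 _ := H8.le_pPrimeCore_two ⟨fun x hx g =>
      ⟨H42.conj_mem_of_mem_normalizer g.2 hx.1, (H42.orderOf_conj' (g : G) x).symm ▸ hx.2⟩⟩ (by
        by_contra c
        obtain ⟨v, hv, v2⟩ := H8.exists_involution_of_even _ (Nat.not_odd_iff_even.1 c)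
        have := hv.2
        rw [orderOf_coe, v2] at this
        exact absurd this (by decide))
    exact mem_bot.1 (hO ▸ S1221.result _ hS ⟨⟨b, le_normalizer hb⟩, hB ⟨hb, bo⟩, rfl⟩)
  refine H8.sl2_of_cc_abelian A (fun x hx x1 => ?_) hA j2 j2' hj hj' hne hn
  have h2 : 2 ∣ orderOf x := even_iff_two_dvd.1 (Nat.not_odd_iff_even.1 fun c => x1 (h1 x hx c))
  rw [← hc _ (pow_mem hx _) (orderOf_pow_orderOf_div (orderOf_pos x).ne' h2)]
  exact fun g hg => mem_centralizer_singleton_iff.2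
    ((show Commute g x from mem_centralizer_singleton_iff.1 hg).pow_right _)

/-- An invariant coset of a subgroup of index two of an abelian subgroup of odd index has a
fixed point. -/
theorem exists_fixed_out {H M : Subgroup G} [M.Normal] (hM : M.index = 2)
    (hH : ∀ a ∈ H, ∀ b ∈ H, a * b = b * a) (ho : Odd H.index) {s : G} (hs : s ∈ H) (hsM : s ∉ M) :
    ∃ z ∈ H, z ∉ M ∧ ∀ n ∈ normalizer (H : Set G), n * z * n⁻¹ = z := by
  classical
  let _ : CommGroup H := { (inferInstance : Group H) with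
    mul_comm := fun a b => Subtype.ext (hH _ a.2 _ b.2) }
  let _ : MulAction (normalizer (H : Set G)) H := MulAction.compHom H H.normalizerMonoidHom
  have hsm : ∀ (n : normalizer (H : Set G)) (x : H), ((n • x : H) : G) = n * x * (n : G)⁻¹ :=
    fun _ _ => rfl
  let Ω := (MulAction.orbit (normalizer (H : Set G)) (⟨s, hs⟩ : H)).toFinite.toFinset
  have hΩ : ∀ y, y ∈ Ω ↔ y ∈ MulAction.orbit (normalizer (H : Set G)) (⟨s, hs⟩ : H) :=
    fun y => Set.Finite.mem_toFinset _
  have hodd : Odd Ω.card := by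
    rw [← Set.ncard_eq_toFinset_card, ← MulAction.index_stabilizer]
    refine (ho.of_dvd_nat (relIndex_dvd_index_of_le le_normalizer)).of_dvd_nat
      (index_dvd_of_le fun x hx => Subtype.ext ?_)
    rw [hsm, hH (x : G) hx s hs, mul_inv_cancel_right]
  refine ⟨(∏ y ∈ Ω, y : H), Subtype.prop _, fun c => ?_, fun n hn => ?_⟩
  · have h1 : (∏ y ∈ Ω, (y * (⟨s, hs⟩ : H)⁻¹)) ∈ M.subgroupOf H := prod_mem fun y hy => by
      obtain ⟨n, rfl⟩ := (hΩ y).1 hy
      change (n : G) * s * (n : G)⁻¹ * s⁻¹ ∈ M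
      rw [mul_mem_iff_of_index_two hM, inv_mem_iff]
      exact iff_of_false (fun c => hsM (by simpa using ‹M.Normal›.mem_comm c)) hsM
    rw [Finset.prod_mul_distrib, Finset.prod_const,
      mul_mem_cancel_left (show _ ∈ M.subgroupOf H from c), inv_pow, inv_mem_iff] at h1
    exact hsM (H23.mem_of_odd_of_sq_mem hodd h1 ((mul_mem_iff_of_index_two hM).2 Iff.rfl))
  · refine congrArg Subtype.val ((map_prod (H.normalizerMonoidHom ⟨n, hn⟩) (fun y => y) Ω).trans
      (Finset.prod_equiv (H.normalizerMonoidHom ⟨n, hn⟩).toEquiv (fun y => ?_) fun _ _ => rfl))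
    rw [hΩ, hΩ]
    refine ⟨MulAction.mem_orbit_of_mem_orbit (⟨n, hn⟩ : normalizer (H : Set G)), fun c => ?_⟩
    rw [← inv_smul_smul (⟨n, hn⟩ : normalizer (H : Set G)) y]
    exact MulAction.mem_orbit_of_mem_orbit _ c

namespace DH

variable {H A : Subgroup G} (h : DH H A)
  (nf : ∀ v ∈ A, orderOf v = 2 → ∀ g : G, g * v * g⁻¹ ∈ H → g * v * g⁻¹ ∈ A)
include h nf

theorem odd_index {j : G} (hj : j ∈ A) (j2 : orderOf j = 2) : Odd H.index := by
  have : Fact (Nat.Prime 2) := ⟨Nat.prime_two⟩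
  let V : Subgroup G :=
    { carrier := {x | x ∈ A ∧ x * x = 1}
      one_mem' := ⟨one_mem _, one_mul 1⟩
      inv_mem' := fun hx => ⟨inv_mem hx.1, by rw [← mul_inv_rev, hx.2, inv_one]⟩
      mul_mem' := fun {a b} ha hb => ⟨mul_mem ha.1 hb.1, by
        rw [(show Commute b a from h.comm hb.1 ha.1).mul_mul_mul_comm, ha.2, hb.2, one_mul]⟩ }
  have hV : IsPGroup 2 V := fun x => ⟨1, Subtype.ext ((sq (x : G)).trans x.2.2)⟩
  obtain ⟨P, hP, hVP⟩ := H42.exists_sylIn hV (H := H) fun x hx => h.le hx.1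
  obtain ⟨S, hS⟩ := hP.isP.exists_le_sylow
  refine (odd_index_sylow S).of_dvd_nat (index_dvd_of_le (by_contra fun c => ?_))
  have h1 := H42.lt_inf_normalizer S.isPGroup' (inf_lt_left.2 c)
  obtain ⟨z, hz, z2, hc⟩ := H46.exists_involution_centralized hV
    (fun e => GW.ne_one_of_inv j2 (mem_bot.1 (e ▸ ⟨hj, GW.mul_self_of_inv j2⟩)))
    (T := (S : Subgroup G) ⊓ normalizer (((S : Subgroup G) ⊓ H : Subgroup G) : Set G))
    S.isPGroup'.to_inf_left fun g hg => H42.mem_normalizer_of_conj_mem fun v hv => by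
      refine ⟨?_, H42.conj_mul_self hv.2 g⟩
      by_cases v1 : v = 1
      · simp [v1, one_mem]
      · exact nf v hv.1 (GW.inv_of_mul_self hv.2 v1) g
          (H42.conj_mem_of_mem_normalizer hg.2 ⟨hS (hVP hv), h.le hv.1⟩).2
  exact h1.not_ge fun g hg => ⟨hg.1, (h.mem_iff hz.1 z2).2 (hc g hg)⟩

theorem exists_M {j : G} (hj : j ∈ A) (j2 : orderOf j = 2) :
    ∃ M : Subgroup G, M.Normal ∧ M.index = 2 ∧ M ⊓ H = A := by
  obtain ⟨s, hs, hsA⟩ := h.exists_out
  have ss := h.out s hs hsA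
  obtain ⟨M, hM, hi, hsM, hx⟩ := exists_index_two (h.odd_index nf hj j2) h.idx (u := s) (n := 1)
    (by rw [pow_one, sq, ss]) (fun g c => hsA (by
      have := nf _ c (GW.orderOf_conj_inv (GW.inv_of_mul_self ss fun e => hsA (e ▸ one_mem _)) g)
        g⁻¹ (by simpa [mul_assoc] using hs)
      simpa [mul_assoc] using this)) (fun k g _ => by simp [ss, one_mem])
  have hA : A ≤ M := fun a ha => hx a fun k g c => by
    by_contra c'
    have h1 : a ^ k * a ^ k = 1 := by simpa using h.out _ c c'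
    exact c' (nf _ (pow_mem ha k) (GW.inv_of_mul_self h1 fun e => c' (by simp [e, one_mem])) g c)
  refine ⟨M, hM, hi, le_antisymm (fun x hx => by_contra fun c => hsM ?_) (le_inf hA h.le)⟩
  have := hA (H42.mul_inv_mem_of_relIndex_two h.idx hx.2 hs c hsA)
  rwa [mul_mem_cancel_left (mem_inf.1 hx).1, inv_mem_iff] at this

theorem caseB (hO : pPrimeCore 2 G = ⊥) (hns : ¬ Group.IsSolvable G) {j j' : G} (hj : j ∈ A)
    (hj' : j' ∈ A) (j2 : orderOf j = 2) (j2' : orderOf j' = 2) (hne : j ≠ j') :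
    ∃ (Z : Subgroup G) (_ : Z.Normal), Nat.card Z = 2 ∧
      ∃ (F : Type) (_ : Field F) (_ : Fintype F), 3 < Fintype.card F ∧
        Nonempty (G ⧸ Z ≃* PSL(2, F)) := by
  have : Fact (Nat.Prime 2) := ⟨Nat.prime_two⟩
  obtain ⟨M, _, hi, hM⟩ := h.exists_M nf hj j2
  have ho := h.odd_index nf hj j2
  have hAM : A ≤ M := hM ▸ inf_le_left
  obtain ⟨K, _, _, hK, hc, ⟨e⟩⟩ := sl2_of_abelian_cent (G := M) (H8.core_eq_bot_of_normal hO M)
    (fun c => hns ((Group.isSolvable_iff_subgroup_quotient M).2 ⟨c,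
      have := (IsPGroup.of_card (p := 2) (n := 1) (G := G ⧸ M) hi).isNilpotent
      inferInstance⟩))
    (A := A.subgroupOf M) (fun a ha b hb => Subtype.ext (h.comm ha hb)) (by
      have h1 := relIndex_mul_index hAM
      have h2 := relIndex_mul_index h.le
      rw [h.idx, ← h1, hi, mul_comm] at h2
      rwa [show H.index = A.relIndex M by omega] at ho)
    (fun v hv v2 => by
      ext x
      rw [mem_centralizer_singleton_iff, mem_subgroupOf, ← hM, mem_inf,
        h.mem_iff hv ((orderOf_coe v).trans v2), Subtype.ext_iff]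
      simp) (j := ⟨j, hAM hj⟩) (j' := ⟨j', hAM hj'⟩) hj hj' ((orderOf_coe _).symm.trans j2)
    ((orderOf_coe _).symm.trans j2') fun c => hne (congrArg Subtype.val c)
  have h2 : (2 : K) = 0 := CharTwo.two_eq_zero
  have hel : ∀ x ∈ H, x * x = 1 := fun x hx => by
    by_cases c : x ∈ A
    · have := H8.sl2e_sq_of_commute h2 (t := e ⟨j, hAM hj⟩) (g := e ⟨x, hAM c⟩)
        ((e.orderOf_eq _).trans ((orderOf_coe _).symm.trans j2))
        ((show Commute (⟨x, hAM c⟩ : M) ⟨j, hAM hj⟩ from Subtype.ext (h.comm c hj)).map e)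
      rw [← map_mul, e.map_eq_one_iff] at this
      exact congrArg Subtype.val this
    · exact h.out x hx c
  have hH : ∀ a ∈ H, ∀ b ∈ H, a * b = b * a := fun a ha b hb => by
    rw [← inv_eq_of_mul_eq_one_right (hel _ (mul_mem ha hb)), mul_inv_rev,
      inv_eq_of_mul_eq_one_right (hel a ha), inv_eq_of_mul_eq_one_right (hel b hb)]
  obtain ⟨s, hs, hsA⟩ := h.exists_out
  obtain ⟨z, hz, hzM, hfix⟩ := exists_fixed_out hi hH ho hs fun c => hsA (hM ▸ ⟨c, hs⟩)
  have z2 := GW.inv_of_mul_self (hel z hz) fun c => hzM (c ▸ one_mem _)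
  let S : Sylow 2 G := IsPGroup.toSylow (P := H)
    (fun x => ⟨1, Subtype.ext ((sq (x : G)).trans (hel x x.2))⟩)
    fun c => Nat.not_even_iff_odd.2 ho (even_iff_two_dvd.2 c)
  obtain ⟨N, hN, hNo, hc'⟩ := S0215.result S z z2 hz fun g hg => by
    obtain ⟨n, hn, e⟩ := S.conj_eq_normalizer_conj_of_mem_centralizer z g⁻¹
      (fun s hs => hH s hs z hz) (fun s hs => by rw [inv_inv]; exact hH s hs _ hg)
    rw [inv_inv] at e
    simpa [e] using hfix n⁻¹ (inv_mem hn)
  rw [H8.core_eq_bot_iff.1 hO N hN hNo] at hc'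
  have hZ : z ∈ center G := mem_center_iff.2 fun g => by
    have := mem_bot.1 (hc' g)
    rw [mul_inv_eq_one, mul_inv_eq_iff_eq_mul] at this
    exact this.symm
  have := H8.normal_zpowers_of_central hZ
  obtain ⟨f⟩ := H8.nonempty_sl_equiv_psl K h2
  refine ⟨zpowers z, this, by rw [Nat.card_zpowers, z2], K, inferInstance, inferInstance, ?_,
    ⟨(MulEquiv.ofBijective ((QuotientGroup.mk' (zpowers z)).comp M.subtype) ⟨?_, ?_⟩).symm.trans
      (e.trans f)⟩⟩
  · have := card_le_of_le (GW.four_le hj hj')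
    rw [GW.Refl.card_four ⟨j2', hne.symm, h.comm hj hj'⟩ j2,
      ← Nat.card_congr (subgroupOfEquivOfLe hAM).toEquiv] at this
    omega
  · refine (injective_iff_map_eq_one _).2 fun x hx => ?_
    rcases (GW.mem_zpowers_of_inv z2).1 ((QuotientGroup.eq_one_iff (x : G)).1 hx) with c | c
    · exact Subtype.ext c
    · exact absurd (c ▸ x.2) hzM
  · intro y
    obtain ⟨g, rfl⟩ := QuotientGroup.mk_surjective y
    by_cases c : g ∈ M
    · exact ⟨⟨g, c⟩, rfl⟩
    · exact ⟨⟨g * z, (mul_mem_iff_of_index_two hi).2 (iff_of_false c hzM)⟩,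
        QuotientGroup.mk_mul_of_mem g (mem_zpowers z)⟩

end DH

end Cfsg.Agent.H18
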