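import Cfsg.Agent.H18.F22M
import Cfsg.Agent.H18.Cls

/-! The classes of elements of order three of Fi22 and their centralisers. -/

set_option autoImplicit false
set_option Elab.async false
set_option maxRecDepth 100000
set_option exponentiation.threshold 400000

namespace Cfsg.Agent.H18.F22

open Cfsg.Agent.H14 Cfsg.Agent.H58 Cfsg.Agent.H95 Cfsg.Agent.H96

def gw : List (List ℕ) := [[10], [11], [12], [13], [14], [15], [16], [17], [18]]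
def ds : List Pc.Lev := [(0, [[[1952, 1705], [2, 1], [0, 0], [0, 0], [5, 7], [1, 2], [0, 0], [0, 0]], [[979, 1220], [1, 2], [0, 0], [0, 0], [4, 8], [2, 1], [0, 0], [0, 0]]]), (0, [[[243, 486], [0, 0], [38, 73], [18, 9], [0, 0], [1, 2], [0, 0]], [[486, 243], [0, 0], [46, 65], [9, 18], [0, 0], [2, 1], [0, 0]]]), (0, [[[0, 0], [33, 57], [0, 0], [3, 6], [0, 0], [0, 0]], [[0, 0], [30, 60], [0, 0], [6, 3], [0, 0], [0, 0]]]), (0, [[[9, 18], [18, 9], [0, 0], [0, 0], [0, 0]], [[18, 9], [9, 18], [0, 0], [0, 0], [0, 0]]]), (0, [[[0, 0], [0, 0], [0, 0], [0, 0]], [[0, 0], [0, 0], [0, 0], [0, 0]]]), (0, [[[0, 0], [0, 0], [0, 0]], [[0, 0], [0, 0], [0, 0]]]), (0, [[[0, 0], [0, 0]], [[0, 0], [0, 0]]]), (0, [[[0, 0]], [[0, 0]]]), (0, [[], []])]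
def xs : List (List ℕ) := [[14, 18], [16], [18], [13]]
def As : List (List ℕ) := [[1, 6, 18, 54, 81, 486, 1458, 4374, 6561], [2, 3, 18, 27, 162, 486, 729, 4374, 13122]]
def Cf0 : Pc.Cf := ⟨3, 9, ds, true, 0, 0, 0, ds, As, []⟩
def lv : List (ℕ × ℕ × List ℕ) := [(6561, 2, []), (2187, 2, [8, 6, 4, 5, 1, 2, 3, 4, 8, 9, 8, 4, 5, 3, 4, 8, 6, 5, 4, 3, 2, 1, 9, 5, 6, 4, 5, 3, 4, 8, 4, 5, 6, 3, 4, 5, 2, 3, 4, 8, 9, 2, 3, 4, 8, 5, 6, 3, 4, 5, 2, 3, 4, 8, 3, 4, 5, 6, 3, 4, 5, 2, 3, 4, 2]), (729, 1, []), (243, 2, [6, 4, 5, 3, 4, 8, 9, 6, 5, 4, 8, 6, 4, 5, 4]), (2430, 0, [9, 8, 4, 5, 3, 4, 8, 9, 5, 6, 3, 4, 5, 2, 3, 4, 8, 7, 6, 5, 4, 3, 2, 1, 2, 3, 4, 5, 6, 7, 4, 8, 9, 3, 4, 8, 6, 2, 3, 4, 2, 3]), (4617, 1, [8, 6, 5]), (81, 2, [6, 5, 4, 8, 9, 5, 4,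 8, 6, 4, 5, 4]), (6642, 0, []), (13203, 1, [4, 5, 6, 4]), (27, 3, []), (756, 2, [8, 7, 6, 4, 5, 3, 4, 8, 9, 2, 3, 4, 8, 5, 6, 2, 3, 4, 5, 1, 2, 3, 4, 8, 9, 5, 6, 4, 5, 2, 3, 4, 8, 7, 6, 5, 4, 3, 2, 1, 3, 4, 8, 2, 3, 4, 5, 6, 7, 6, 5, 4, 8, 5, 6, 3, 4, 5, 2, 3, 4, 8, 9, 5, 6, 4, 5, 2, 3, 4, 8, 2, 3, 4, 5, 2, 3]), (1485, 2, [4, 5, 6, 3, 4, 5, 1, 2, 3, 4, 8, 9, 4, 5, 3, 4, 8, 6, 5, 4, 3, 2, 1, 8, 9, 4, 8, 5, 6, 4, 5, 2, 3, 4, 8, 9, 5, 6, 4, 5, 3, 4, 8, 4, 5, 6, 3, 4, 5, 2, 3, 4, 8, 6, 3, 4, 5, 2, 3, 4, 2]), (270, 3, [4, 5, 6, 3, 4, 5, 1, 2, 3, 4, 8, 9, 4, 5, 3, 4, 8, 6, 5, 4, 3, 2, 1, 7, 6, 5, 4, 8, 9, 3, 4, 8, 2, 3, 4, 5, 6, 7, 8, 9, 6, 5, 4, 8, 3, 4, 5, 2, 3, 4, 8, 9, 6, 5, 3, 4, 8, 4, 5, 6, 4, 5, 3]), (108, 3, [5, 1, 2, 3, 4, 8, 9, 5,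 3, 4, 8, 6, 5, 4, 3, 2, 1, 4, 8, 7, 6, 3, 4, 5, 2, 3, 4, 8, 9, 8, 4, 5, 3, 4, 8, 2, 3, 4, 5, 6, 7, 8, 9, 4, 5, 2, 3, 4, 8, 4, 5, 6, 3, 4, 5, 2, 3, 4, 8, 9, 8, 4, 5, 6, 3, 4, 5, 2, 3, 4, 8, 4, 5, 6, 3, 4, 5, 2, 3, 4, 8, 3, 4, 5, 6, 5, 3, 4]), (9, 1, [4, 5, 6, 3, 4, 5, 1, 2, 3, 4, 8, 9, 4, 5, 3, 4, 8, 6, 5, 4, 3, 2, 1, 7, 6, 5, 4, 8, 9, 3, 4, 8, 2, 3, 4, 5, 6, 7, 4, 5, 2, 3, 4, 8, 9, 6, 5, 4, 8, 4, 5, 6, 3, 4, 5, 2, 3, 4, 8, 5, 6, 3, 4, 5, 4, 2]), (2196, 3, [7, 6, 5, 2, 3, 4, 8, 9, 4, 5, 3, 4, 8, 2, 3, 4, 5, 6, 7, 6, 4, 5, 3, 4, 8, 4, 5, 6, 3, 4, 5, 2, 3, 4, 8, 9, 6, 5, 4, 8, 6, 3, 4, 5, 2, 3, 4, 8, 3, 4, 5, 6, 2, 3, 4, 5, 3, 4, 2, 3, 2]), (4383, 3, [4, 5, 6, 3, 4, 5, 1, 2, 3, 4, 8, 9, 4, 5, 3, 4, 8, 6, 5, 4, 3, 2, 1, 9, 4, 5, 6, 3, 4,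 5, 2, 3, 4, 8, 4, 5, 6, 3, 4, 5, 2, 3, 4, 8, 9, 6, 5, 4, 8, 5, 6, 3, 4, 5, 2, 3, 4, 8, 4, 5, 6, 2, 3, 4, 5, 2]), (252, 3, [4, 5, 6, 3, 4, 5, 1, 2, 3, 4, 8, 9, 4, 5, 3, 4, 8, 6, 5, 4, 3, 2, 1, 9, 4, 8, 5, 6, 4, 5, 2, 3, 4, 8, 9, 5, 3, 4, 8, 4, 5, 6, 3, 4, 5, 2, 3, 4, 8, 3, 4, 5, 6, 5, 3, 4, 2]), (2439, 2, [7, 6, 5, 4, 8, 9, 2, 3, 4, 8, 7, 3, 4, 5, 6, 2, 3, 4, 5, 1, 2, 3, 4, 8, 9, 5, 6, 4, 5, 2, 3, 4, 8, 7, 6, 5, 4, 3, 2, 1, 7, 6, 4, 5, 2, 3, 4, 8, 9, 6, 4, 5, 3, 4, 8, 2, 3, 4, 5, 6, 7, 8, 4, 5, 3, 4, 8, 5, 6, 4, 5, 3]), (4626, 1, [4, 5, 6, 3, 4, 5, 1, 2, 3, 4, 8, 9, 4, 5, 3, 4, 8, 6, 5, 4, 3, 2, 1, 5, 6, 4, 5, 3, 4, 8, 4, 5, 6, 3, 4, 5, 2, 3, 4, 8, 9, 6, 5, 3, 4, 8, 5, 6, 3, 4, 5, 2, 3, 4, 8, 3, 4, 5, 2, 3, 4, 3, 2]), (495, 3, [7, 6, 5,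 2, 3, 4, 8, 9, 4, 5, 3, 4, 8, 2, 3, 4, 5, 6, 7, 6, 4, 5, 3, 4, 8, 4, 5, 6, 3, 4, 5, 2, 3, 4, 8, 9, 6, 4, 5, 3, 4, 8, 4, 5, 6, 3, 4, 5, 2, 3, 4, 8, 2, 3, 4, 5, 6, 2, 3, 4, 5, 4, 3, 2]), (2682, 1, [7, 6, 5, 2, 3, 4, 8, 9, 4, 5, 3, 4, 8, 2, 3, 4, 5, 6, 7, 9, 6, 5, 3, 4, 8, 4, 5, 6, 3, 4, 5, 2, 3, 4, 8, 9, 8, 4, 5, 2, 3, 4, 8, 3, 4, 5, 6, 2, 3, 4, 5, 3, 2]), (4869, 2, [7, 6, 5, 2, 3, 4, 8, 9, 4, 5, 3, 4, 8, 5, 6, 2, 3, 4, 5, 1, 2, 3, 4, 8, 9, 6, 4, 5, 2, 3, 4, 8, 7, 6, 5, 4, 3, 2, 1, 7, 6, 4, 5, 3, 4, 8, 9, 6, 4, 5, 3, 4, 8, 2, 3, 4, 5, 6, 7, 5, 4, 8, 9, 3, 4, 8, 5, 6, 4, 5, 3, 4, 8, 9, 5, 4, 8, 5, 6, 4, 5, 3, 4]), (3, 1, [7, 6, 5, 2, 3, 4, 8, 9, 4, 5, 3, 4, 8, 2, 3, 4, 5, 6, 7, 9, 3, 4, 8, 5, 6, 4, 5, 2, 3, 4, 8, 9, 4, 8, 6, 3, 4, 5, 2,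 3, 4, 8, 4, 5, 6, 3, 4, 5, 3, 2]), (2190, 3, [5, 6, 2, 3, 4, 5, 1, 2, 3, 4, 8, 9, 8, 4, 5, 3, 4, 8, 6, 5, 4, 3, 2, 1, 4, 5, 3, 4, 8, 9, 4, 5, 3, 4, 8, 4, 5, 6, 3, 4, 5, 2, 3, 4, 8, 9, 6, 5, 4, 8, 5, 6, 3, 4, 5, 2, 3, 4, 8, 2, 3, 4, 5, 6, 5, 4, 2]), (732, 1, [4, 5, 6, 3, 4, 5, 1, 2, 3, 4, 8, 9, 4, 5, 3, 4, 8, 6, 5, 4, 3, 2, 1, 7, 6, 5, 4, 8, 9, 3, 4, 8, 2, 3, 4, 5, 6, 7, 8, 9, 3, 4, 5, 2, 3, 4, 8, 4, 5, 6, 3, 4, 5, 2, 3, 4, 8, 9, 8, 3, 4, 5, 2, 3, 4, 8, 2, 3, 4, 5, 3, 4, 2, 3]), (2919, 2, [9, 8, 6, 7, 5, 6, 4, 5, 3, 4, 8, 9, 2, 3, 4, 8, 3, 4, 5, 6, 2, 3, 4, 5, 1, 2, 3, 4, 8, 9, 5, 6, 4, 5, 1, 2, 3, 4, 8, 7, 6, 5, 4, 3, 2, 1, 4, 5, 3, 4, 8, 9, 6, 4, 5, 3, 4, 8, 2, 3, 4, 5, 6, 7, 9, 4, 8, 3, 4, 5, 2, 3, 4, 8, 9, 4, 8, 3, 4, 5, 2, 3, 4, 8,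 2, 3, 4, 5, 6, 3, 4, 5, 2, 3, 2]), (1461, 1, [4, 5, 6, 3, 4, 5, 1, 2, 3, 4, 8, 9, 4, 5, 3, 4, 8, 6, 5, 4, 3, 2, 1, 5, 6, 4, 5, 3, 4, 8, 4, 5, 6, 3, 4, 5, 2, 3, 4, 8, 9, 6, 3, 4, 5, 2, 3, 4, 8, 4, 5, 6, 3, 4, 5, 2, 3, 4, 8, 2, 3, 4, 5, 2, 3, 4]), (3648, 3, [5, 6, 7, 4, 5, 6, 3, 4, 5, 2, 3, 4, 8, 9, 5, 6, 4, 5, 3, 4, 8, 2, 3, 4, 5, 6, 7, 3, 4, 8, 9, 5, 3, 4, 8, 4, 5, 6, 3, 4, 5, 2, 3, 4, 8, 9, 2, 3, 4, 5, 6, 5, 4, 2]), (30, 3, [4, 5, 6, 3, 4, 5, 1, 2, 3, 4, 8, 9, 4, 5, 3, 4, 8, 6, 5, 4, 3, 2, 1, 7, 6, 5, 4, 8, 9, 3, 4, 8, 2, 3, 4, 5, 6, 7, 6, 5, 4, 8, 9, 4, 5, 3, 4, 8, 5, 2]), (2217, 1, [4, 5, 6, 3, 4, 5, 1, 2, 3, 4, 8, 9, 4, 5, 3, 4, 8, 6, 5, 4, 3, 2, 1, 4, 8, 7, 6, 3, 4, 5, 2, 3, 4, 8, 9, 8, 4, 5, 3, 4, 8, 2, 3, 4, 5, 6, 7, 5, 6, 4, 5,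 3, 4, 8, 4, 5, 6, 3, 4, 5, 2, 3, 4, 8, 9, 5, 6, 4, 5, 3, 4, 8, 6, 3, 4, 5, 2, 3, 4, 2, 3]), (759, 0, [4, 5, 2, 3, 4, 8, 9, 8, 4, 5, 3, 4, 8, 7, 6, 5, 4, 3, 2, 1, 4, 8, 6, 3, 4, 5, 2, 3, 4, 8, 9, 8, 4, 5, 3, 4, 8, 2, 3, 4, 5, 6, 7, 3, 4, 8, 9, 3, 4, 8, 5, 6, 3, 4, 5, 2, 3, 4, 8, 2, 3]), (2946, 3, [1, 2, 3, 4, 8, 9, 4, 5, 1, 2, 3, 4, 8, 6, 5, 4, 3, 2, 1, 4, 8, 7, 6, 3, 4, 5, 2, 3, 4, 8, 9, 8, 4, 5, 3, 4, 8, 2, 3, 4, 5, 6, 7, 9, 6, 5, 4, 8, 3, 4, 5, 2, 3, 4, 8, 9, 6, 5, 3, 4, 8, 5, 6, 3, 4, 5, 2, 3, 4, 8, 5, 6, 2, 3, 4, 5, 3, 4, 2, 3]), (1488, 3, [4, 5, 6, 3, 4, 5, 1, 2, 3, 4, 8, 9, 4, 5, 3, 4, 8, 6, 5, 4, 3, 2, 1, 7, 6, 5, 4, 8, 9, 3, 4, 8, 2, 3, 4, 5, 6, 7, 6, 5, 3, 4, 8, 4, 5, 6, 3, 4, 5, 2, 3, 4, 8, 9, 5, 3, 4, 8, 5, 6, 5, 3]), (3675,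 1, [5, 6, 2, 3, 4, 5, 1, 2, 3, 4, 8, 9, 8, 4, 5, 3, 4, 8, 6, 5, 4, 3, 2, 1, 4, 5, 3, 4, 8, 6, 7, 5, 6, 4, 5, 3, 4, 8, 9, 8, 4, 5, 3, 4, 8, 2, 3, 4, 5, 6, 7, 8, 9, 6, 5, 4, 8, 6, 3, 4, 5, 2, 3, 4, 8, 9, 4, 8, 6, 3, 4, 5]), (57, 2, [4, 5, 6, 3, 4, 5, 1, 2, 3, 4, 8, 9, 4, 5, 3, 4, 8, 6, 5, 4, 3, 2, 1, 8, 4, 5, 6, 3, 4, 5, 2, 3, 4, 8, 4, 5, 6, 3, 4, 5, 2, 3, 4, 8, 9, 6, 5, 3, 4, 8, 5, 6, 3, 4, 5, 2, 3, 4, 8, 3, 4, 5, 2, 3, 4, 2]), (2244, 3, [5, 6, 2, 3, 4, 5, 1, 2, 3, 4, 8, 9, 8, 4, 5, 3, 4, 8, 6, 5, 4, 3, 2, 1, 4, 5, 3, 4, 8, 6, 7, 5, 6, 4, 5, 3, 4, 8, 9, 8, 4, 5, 3, 4, 8, 2, 3, 4, 5, 6, 7, 5, 4, 8, 9, 6, 5, 2, 3, 4, 8, 4, 5, 6, 3, 4, 5, 2, 3, 4, 8, 9, 3, 4, 8, 5, 6, 4, 5, 2, 3, 4, 8, 3, 4, 5, 6, 5, 4, 3]), (786, 3, [4, 8, 4]), (2973, 3,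 [4, 5, 6, 3, 4, 5, 1, 2, 3, 4, 8, 9, 4, 5, 3, 4, 8, 6, 5, 4, 3, 2, 1, 7, 6, 5, 4, 8, 9, 3, 4, 8, 2, 3, 4, 5, 6, 7, 8, 9, 6, 5, 3, 4, 8, 5, 6, 3, 4, 5, 2, 3, 4, 8, 9, 6, 4, 5, 3, 4, 8, 6, 3, 4]), (1515, 2, [7, 6, 5, 2, 3, 4, 8, 9, 4, 5, 2, 3, 4, 8, 5, 6, 2, 3, 4, 5, 1, 2, 3, 4, 8, 9, 6, 4, 5, 2, 3, 4, 8, 7, 6, 5, 4, 3, 2, 1, 4, 8, 7, 6, 3, 4, 5, 2, 3, 4, 8, 9, 8, 4, 5, 3, 4, 8, 2, 3, 4, 5, 6, 7, 9, 2, 3, 4, 8, 5, 6, 4, 5, 3, 4, 8, 9, 6, 5, 4, 8, 4, 5, 6, 3, 4, 5, 2, 3, 4, 8, 4, 5, 6, 5, 2, 3, 2]), (3702, 3, [4, 5, 6, 3, 4, 5, 1, 2, 3, 4, 8, 9, 4, 5, 3, 4, 8, 6, 5, 4, 3, 2, 1, 4, 8, 7, 6, 3, 4, 5, 2, 3, 4, 8, 9, 8, 4, 5, 3, 4, 8, 2, 3, 4, 5, 6, 7, 5, 3, 4, 8, 4, 5, 6, 3, 4, 5, 2, 3, 4, 8, 9, 2, 3, 4, 8, 5, 6, 4, 5, 3, 4, 8, 3, 4, 5, 6,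 5, 2, 3, 4, 2, 3]), (138, 3, [3, 4, 8, 2, 3, 4, 5, 1, 2, 3, 4, 8, 9, 3, 4, 5, 2, 3, 4, 8, 6, 5, 4, 3, 2, 1, 4, 5, 3, 4, 8, 6, 7, 5, 6, 4, 5, 3, 4, 8, 9, 8, 4, 5, 3, 4, 8, 2, 3, 4, 5, 6, 7, 9, 3, 4, 8, 4, 5, 6, 3, 4, 5, 2, 3, 4, 8, 9, 5, 4, 8, 4, 5, 6, 3, 4, 5, 4, 2, 3]), (1, 1, [5, 1, 2, 3, 4, 8, 9, 5, 3, 4, 8, 6, 5, 4, 3, 2, 1, 4, 8, 7, 6, 3, 4, 5, 2, 3, 4, 8, 9, 8, 4, 5, 3, 4, 8, 2, 3, 4, 5, 6, 7, 9, 5, 4, 8, 4, 5, 6, 3, 4, 5, 2, 3, 4, 8, 9, 4, 5, 2, 3, 4, 8, 2, 3, 4, 5, 6, 5, 4, 3, 2]), (6562, 3, [5, 1, 2, 3, 4, 8, 9, 5, 3, 4, 8, 6, 5, 4, 3, 2, 1, 3, 4, 8, 5, 6, 4, 5, 2, 3, 4, 8, 9, 8, 5, 6, 4, 5, 3, 4, 8, 2, 3, 4, 5, 6, 3, 4, 5, 3, 4, 2, 3, 2]), (13123, 3, [8, 7, 5, 6, 3, 4, 5, 2, 3, 4, 8, 9, 8, 4, 5, 3, 4, 8, 2, 3, 4, 5, 6, 7, 9,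 6, 4, 5, 2, 3, 4, 8, 4, 5, 6, 3, 4, 5, 2, 3, 4, 8, 9, 5, 6, 4, 5, 2, 3, 4, 8, 4, 5, 6, 3, 4, 5, 2, 3, 4, 8, 4, 5, 6, 5, 2, 3, 2]), (82, 3, [8, 7, 5, 6, 3, 4, 5, 2, 3, 4, 8, 9, 8, 4, 5, 3, 4, 8, 2, 3, 4, 5, 6, 7, 9, 5, 4, 8, 5, 6, 3, 4, 5, 2, 3, 4, 8, 9, 6, 5, 2, 3, 4, 8, 2, 3, 4, 5, 6, 4, 2, 3, 2]), (6643, 2, [7, 5, 6, 3, 4, 5, 2, 3, 4, 8, 9, 4, 5, 3, 4, 8, 3, 4, 5, 6, 2, 3, 4, 5, 1, 2, 3, 4, 8, 9, 5, 6, 4, 5, 1, 2, 3, 4, 8, 7, 6, 5, 4, 3, 2, 1, 9, 8, 4, 5, 6, 7, 4, 8, 9, 6, 5, 4, 8, 5, 6, 3, 4, 5, 2, 3, 4, 8, 9, 6, 5, 2, 3, 4, 8, 4, 5, 6, 3, 4, 5, 2, 3, 4, 8, 6, 4, 5, 4, 3, 2]), (13204, 1, [8, 7, 5, 6, 3, 4, 5, 2, 3, 4, 8, 9, 8, 4, 5, 3, 4, 8, 2, 3, 4, 5, 6, 7, 8, 9, 5, 3, 4, 8, 4, 5, 6, 3, 4, 5, 2, 3, 4, 8, 9, 6, 4, 5, 2, 3, 4, 8, 5,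 6, 2, 3, 4, 5]), (163, 3, [5, 1, 2, 3, 4, 8, 9, 5, 3, 4, 8, 6, 5, 4, 3, 2, 1, 9, 6, 4, 5, 3, 4, 8, 4, 5, 6, 3, 4, 5, 2, 3, 4, 8, 9, 6, 5, 2, 3, 4, 8, 5, 6, 3, 4, 5, 2, 3, 4, 8, 5, 3, 4, 3, 2]), (6724, 1, [5, 1, 2, 3, 4, 8, 9, 5, 3, 4, 8, 6, 5, 4, 3, 2, 1, 8, 9, 4, 8, 5, 6, 4, 5, 2, 3, 4, 8, 9, 4, 8, 4, 5, 6, 3, 4, 5, 2, 3, 4, 8, 4, 5, 3, 4, 2]), (13285, 2, [9, 8, 7, 6, 4, 5, 3, 4, 8, 9, 2, 3, 4, 8, 5, 6, 2, 3, 4, 5, 1, 2, 3, 4, 8, 9, 5, 6, 4, 5, 1, 2, 3, 4, 8, 7, 6, 5, 4, 3, 2, 1, 3, 4, 8, 2, 3, 4, 5, 6, 7, 5, 6, 4, 5, 2, 3, 4, 8, 4, 5, 6, 3, 4, 5, 2, 3, 4, 8, 9, 6, 5, 3, 4, 8, 5, 3, 4, 2, 3])]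
def cs : List (List ℕ × ℕ) := [([18], 2519424), ([16], 139968), ([13], 17496)]

theorem p1 : eqR KX RM (Pc.relW 3 gw ds) = true := by decide +kernel
theorem p2 : freeOK KX 3 gw [(4, [2, 4, 2, 4]), (2, [0, 1, 2, 0, 1, 0]), (2, [0, 1, 0, 1]), (2, [0, 0]), (58, [0, 1, 3, 2, 3, 0]), (0, [0, 1, 2, 0, 1, 2]), (0, [0, 1, 0, 1]), (4, []), (0, [])] = true := by decide +kernel
theorem p3 : imAll KX RM gw [[19], [20]] As = true := by decide +kernel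
theorem p4 : lvOK KX RM gw xs lv = true := by decide +kernel
theorem p5 : Pc.seg Cf0 [.cj 9 0 0 0 1, .cj 9 6561 0 6561 3, .sv, .e0 9 13122 [1] 1, .br 8 0, .cj 9 2187 0 2187 7, .cj 9 8748 6 2187 0, .cj 9 15309 3 2187 2, .br 8 2187, .sv, .e0 8 4374 [0] 1, .br 7 0, .cj 9 729 0 729 11, .cj 9 7290 18 729 0, .cj 9 13851 9 729 2, .br 8 729, .cj 8 2916 2 729 0, .cj 8 5103 1 729 2, .br 7 729, .sv, .e0 7 1458 [0] 1, .br 6 0, .cj 9 243 0 243 15, .cj 9 6804 27 243 0, .cj 9 13365 54 243 2, .br 8 243, .cj 9 2430 0 2430 17, .cj 9 8991 27 2430 0, .cj 9 15552 54 2430 2, .br 8 2430, .cj 9 4617 0 4617 19, .cj 9 11178 27 4617 0, .cj 9 17739 54 4617 2, .br 8 4617, .br 7 243, .cj 7 972 1 4617 0, .cj 7 1701 2 4617 2, .br 6 243, .sv, .e0 6 486 [0] 1, .br 5 0,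 .cj 9 81 0 81 23, .cj 9 6642 0 6642 25, .cj 9 13203 0 13203 27, .br 8 81, .cj 8 2268 54 81 0, .cj 8 4455 27 81 2, .br 7 81, .cj 7 810 9 13203 0, .cj 7 1539 18 13203 2, .br 6 81, .cj 6 324 3 2268 0, .cj 6 567 6 4455 2, .br 5 81, .sv, .e0 5 162 [1] 1, .br 4 0, .cj 9 27 0 27 31, .cj 9 6588 486 27 0, .cj 9 13149 243 27 2, .br 8 27, .cj 8 2214 81 27 0, .cj 8 4401 162 27 2, .br 7 27, .cj 9 756 0 756 33, .cj 9 7317 486 756 0, .cj 9 13878 243 756 2, .br 8 756, .cj 8 2943 81 756 0, .cj 8 5130 162 756 2, .br 7 756, .cj 9 1485 0 1485 35, .cj 9 8046 486 1485 0, .cj 9 14607 243 1485 2, .br 8 1485, .cj 8 3672 81 1485 0, .cj 8 5859 162 1485 2, .br 7 1485, .br 6 27, .cj 9 270 0 270 37, .cj 9 6831 486 270 0, .cj 9 13392 243 270 2, .br 8 270, .cj 8 2457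 81 270 0, .cj 8 4644 162 270 2, .br 7 270, .cj 7 999 1 4644 0, .cj 7 1728 2 4644 2, .br 6 270, .sv, .e0 6 513 [1] 1, .br 5 27, .cj 9 108 0 108 41, .cj 9 6669 486 108 0, .cj 9 13230 243 108 2, .br 8 108, .cj 8 2295 81 108 0, .cj 8 4482 162 108 2, .br 7 108, .cj 7 837 9 13230 0, .cj 7 1566 18 13230 2, .br 6 108, .cj 6 351 3 2295 0, .cj 6 594 6 4482 2, .br 5 108, .sv, .e0 5 189 [1] 1, .br 4 27, .sv, .e0 4 54 [0] 1, .br 3 0, .cj 9 9 0 9 47, .cj 9 6570 729 9 0, .cj 9 13131 1458 9 2, .br 8 9, .cj 9 2196 0 2196 49, .cj 9 8757 729 2196 0, .cj 9 15318 1458 2196 2, .br 8 2196, .cj 9 4383 0 4383 51, .cj 9 10944 729 4383 0, .cj 9 17505 1458 4383 2, .br 8 4383, .br 7 9, .cj 7 738 162 6570 0, .cj 7 1467 81 13131 2, .br 6 9, .cj 9 252 0 252 53, .cj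 9 6813 729 252 0, .cj 9 13374 1458 252 2, .br 8 252, .cj 9 2439 0 2439 55, .cj 9 9000 729 2439 0, .cj 9 15561 1458 2439 2, .br 8 2439, .cj 9 4626 0 4626 57, .cj 9 11187 729 4626 0, .cj 9 17748 1458 4626 2, .br 8 4626, .br 7 252, .cj 7 981 162 6813 0, .cj 7 1710 81 13374 2, .br 6 252, .cj 9 495 0 495 59, .cj 9 7056 729 495 0, .cj 9 13617 1458 495 2, .br 8 495, .cj 9 2682 0 2682 61, .cj 9 9243 729 2682 0, .cj 9 15804 1458 2682 2, .br 8 2682, .cj 9 4869 0 4869 63, .cj 9 11430 729 4869 0, .cj 9 17991 1458 4869 2, .br 8 4869, .br 7 495, .cj 7 1224 162 7056 0, .cj 7 1953 81 13617 2, .br 6 495, .br 5 9, .pr 9 90, .cj 9 6651 729 90 0, .cj 9 13212 1458 90 2, .br 8 90, .cj 8 2277 54 90 0, .cj 8 4464 27 90 2, .br 7 90, .cj 7 819 162 6651 0, .cj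 7 1548 81 13212 2, .br 6 90, .cj 6 333 3 8838 0, .cj 6 576 6 17586 2, .br 5 90, .sv, .e0 5 171 [0, 1] 1, .br 4 9, .cj 4 36 1 9 0, .cj 4 63 2 9 2, .br 3 9, .sv, .e0 3 18 [0] 1, .br 2 0, .cj 9 3 0 3 69, .cj 9 6564 2187 3 0, .cj 9 13125 4374 3 2, .br 8 3, .cj 9 2190 0 2190 71, .cj 9 8751 2187 2190 0, .cj 9 15312 4374 2190 2, .br 8 2190, .sv, .e0 8 4377 [1] 1, .br 7 3, .cj 9 732 0 732 75, .cj 9 7293 2187 732 0, .cj 9 13854 4374 732 2, .br 8 732, .cj 9 2919 0 2919 77, .cj 9 9480 2187 2919 0, .cj 9 16041 4374 2919 2, .br 8 2919, .sv, .e0 8 5106 [1] 1, .br 7 732, .cj 9 1461 0 1461 81, .cj 9 8022 2187 1461 0, .cj 9 14583 4374 1461 2, .br 8 1461, .cj 9 3648 0 3648 83, .cj 9 10209 2187 3648 0, .cj 9 16770 4374 3648 2, .br 8 3648, .sv, .e0 8 5835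 [1] 1, .br 7 1461, .br 6 3, .cj 6 246 162 8751 0, .cj 6 489 81 17499 2, .br 5 3, .pr 9 84, .cj 9 6645 2187 84 0, .cj 9 13206 4374 84 2, .br 8 84, .cj 8 2271 54 84 0, .cj 8 4458 27 84 2, .br 7 84, .cj 7 813 9 6645 0, .cj 7 1542 18 84 2, .br 6 84, .cj 6 327 162 8832 0, .cj 6 570 81 17580 2, .br 5 84, .sv, .e0 5 165 [1] 1, .br 4 3, .cj 9 30 0 30 89, .cj 9 6591 2187 30 0, .cj 9 13152 4374 30 2, .br 8 30, .cj 9 2217 0 2217 91, .cj 9 8778 2187 2217 0, .cj 9 15339 4374 2217 2, .br 8 2217, .sv, .e0 8 4404 [1] 1, .br 7 30, .cj 9 759 0 759 95, .cj 9 7320 2187 759 0, .cj 9 13881 4374 759 2, .br 8 759, .cj 9 2946 0 2946 97, .cj 9 9507 2187 2946 0, .cj 9 16068 4374 2946 2, .br 8 2946, .sv, .e0 8 5133 [1] 1, .br 7 759, .cj 9 1488 0 1488 101, .cj 9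 8049 2187 1488 0, .cj 9 14610 4374 1488 2, .br 8 1488, .cj 9 3675 0 3675 103, .cj 9 10236 2187 3675 0, .cj 9 16797 4374 3675 2, .br 8 3675, .sv, .e0 8 5862 [1] 1, .br 7 1488, .br 6 30, .cj 6 273 162 17526 0, .cj 6 516 81 8778 2, .br 5 30, .pr 9 111, .cj 9 6672 2187 111 0, .cj 9 13233 4374 111 2, .br 8 111, .cj 8 2298 54 111 0, .cj 8 4485 27 111 2, .br 7 111, .cj 7 840 9 6672 0, .cj 7 1569 18 111 2, .br 6 111, .cj 6 354 162 17607 0, .cj 6 597 81 8859 2, .br 5 111, .sv, .e0 5 192 [1] 1, .br 4 30, .cj 9 57 0 57 109, .cj 9 6618 2187 57 0, .cj 9 13179 4374 57 2, .br 8 57, .cj 9 2244 0 2244 111, .cj 9 8805 2187 2244 0, .cj 9 15366 4374 2244 2, .br 8 2244, .sv, .e0 8 4431 [1] 1, .br 7 57, .cj 9 786 0 786 115, .cj 9 7347 2187 786 0, .cj 9 13908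 4374 786 2, .br 8 786, .cj 9 2973 0 2973 117, .cj 9 9534 2187 2973 0, .cj 9 16095 4374 2973 2, .br 8 2973, .sv, .e0 8 5160 [1] 1, .br 7 786, .cj 9 1515 0 1515 121, .cj 9 8076 2187 1515 0, .cj 9 14637 4374 1515 2, .br 8 1515, .cj 9 3702 0 3702 123, .cj 9 10263 2187 3702 0, .cj 9 16824 4374 3702 2, .br 8 3702, .sv, .e0 8 5889 [1] 1, .br 7 1515, .br 6 57, .cj 6 300 162 57 0, .cj 6 543 81 57 2, .br 5 57, .cj 9 138 0 138 127, .cj 9 6699 2187 138 0, .cj 9 13260 4374 138 2, .br 8 138, .cj 8 2325 54 138 0, .cj 8 4512 27 138 2, .br 7 138, .cj 7 867 9 6699 0, .cj 7 1596 18 138 2, .br 6 138, .cj 6 381 162 138 0, .cj 6 624 81 138 2, .br 5 138, .sv, .e0 5 219 [1] 1, .br 4 57, .br 3 3, .cj 3 12 1 17526 0, .cj 3 21 2 8778 2, .br 2 3, .sv, .e0 2 6 [0]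 1, .br 1 0, .cj 9 1 0 1 133, .cj 9 6562 0 6562 135, .cj 9 13123 0 13123 137, .br 8 1, .cj 8 2188 729 1 0, .cj 8 4375 1458 1 2, .br 7 1, .cj 7 730 486 2188 0, .cj 7 1459 243 4375 2, .br 6 1, .pr 8 244, .cj 8 2431 729 244 0, .cj 8 4618 1458 244 2, .br 7 244, .cj 7 973 486 2431 0, .cj 7 1702 243 4618 2, .br 6 244, .sv, .e0 6 487 [0] 1, .br 5 1, .cj 9 82 0 82 141, .cj 9 6643 0 6643 143, .cj 9 13204 0 13204 145, .br 8 82, .cj 8 2269 729 82 0, .cj 8 4456 1458 82 2, .br 7 82, .cj 7 811 486 2269 0, .cj 7 1540 243 4456 2, .br 6 82, .pr 8 325, .cj 8 2512 729 325 0, .cj 8 4699 1458 325 2, .br 7 325, .cj 7 1054 486 2512 0, .cj 7 1783 243 4699 2, .br 6 325, .sv, .e0 6 568 [0] 1, .br 5 82, .cj 9 163 0 163 149, .cj 9 6724 0 6724 151, .cj 9 13285 0 13285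 153, .br 8 163, .cj 8 2350 729 163 0, .cj 8 4537 1458 163 2, .br 7 163, .cj 7 892 486 2350 0, .cj 7 1621 243 4537 2, .br 6 163, .pr 8 406, .cj 8 2593 729 406 0, .cj 8 4780 1458 406 2, .br 7 406, .cj 7 1135 486 2593 0, .cj 7 1864 243 4780 2, .br 6 406, .sv, .e0 6 649 [0] 1, .br 5 163, .br 4 1, .cj 4 28 18 1 0, .cj 4 55 9 1 2, .br 3 1, .cj 3 10 6 4429 0, .cj 3 19 3 2215 2, .br 2 1, .pr 4 4, .cj 4 31 18 6565 0, .cj 4 58 9 13126 2, .br 3 4, .cj 3 13 6 10993 0, .cj 3 22 3 15340 2, .br 2 4, .sv, .e0 2 7 [0] 1, .br 1 1, .sv, .e0 1 2 [1] 1, .br 0 0] [] ([] ++ (0 :: lv.map Prod.fst).map (Pc.key gw.length)) [1] ([66, 259, 25991, 20807, 15623, 195, 8838, 236937, 190281, 143625, 7110, 235209, 188553, 141897, 5382, 233481, 186825, 140169, 580, 5766,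 1733, 6918, 17287, 5190, 15559, 46664, 139977, 419914] ++ (0 :: lv.map Prod.fst).map (Pc.key gw.length)) = true := by decide +kernel
def kg8 : List (List ℕ) := [[10], [11], [12], [13], [14], [15], [16], [17], [18], [21]]
theorem cg8 : eqR KX RM ([[18]].map fun v => comP v kg8).flatten = true := by decide +kernel
theorem fg8 : finC ⟨KX, 12, [], kg8⟩ [.fixE [0],
  .mk (.dif (.m 1) (.m 0)),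
  .sep 0 (.and .pp (.m 0)) 690 [(([], 1), [0, 1, 2, 3, 4, 9, 8, 0, 7, 4, 9, 0, 4, 9, 1]), (([7, 6, 5, 4, 3, 2], 1), [0, 1, 2, 3, 4, 6, 5, 9, 7, 1, 0, 9, 3, 2])],
  .lev 0 ([9, 8, 7, 6, 5, 4, 3, 2], 1) 2187 [0, 1, 2, 3, 4, 6, 8, 7, 9, 5, 3, 1, 7, 2] [[9, 5, 3, 9, 0], [2, 9, 6, 4, 1]],
  .clo [0, 0],
  .mk (.dif (.dif (.dif (.dif (.m 3) (.m 2)) (.m 0)) (.img [0] (.m 0))) (.img [0, 0] (.m 0))),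
  .sep 0 (.and (.and .pp (.img [0] .pp)) (.m 0)) 24 [(([], 1), [0, 1, 0, 1, 0, 1, 0, 1, 0, 1, 0, 1, 0, 1, 1, 0]), (([5], 4), [0, 1, 0, 1, 0, 1, 0, 1, 0, 1, 0, 1, 0, 1, 1, 0])],
  .lev 0 ([2], 1) 288 [0, 1, 0, 1, 0, 1, 0, 1, 0, 1, 0, 1, 0, 1, 0] [[0, 9, 1, 1, 0, 9], [0, 0, 4, 4, 9, 9, 4, 4, 1, 9, 1, 4, 4, 9, 9]],
  .clo [0, 2, 0, 0, 2, 1, 0, 2, 0, 2],
  .mk (.and (.and (.and (.m 3) (.img [2] (.m 4))) (.img [2, 0] (.m 4))) (.img [0, 2] (.m 4))),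
  .lev 0 ([5, 3, 4, 8, 9, 5, 3, 4, 8, 7, 6, 5, 4, 3], 2) 4 [0, 1] [],
  .clo [3, 0, 0, 2]] ⟨[KX.full], [[18]], kg8, 0, [], 1⟩ [8, 7, 6, 4, 5, 1, 2, 3, 4, 8, 9, 3, 4, 5, 2, 3, 4, 8, 7, 6, 5, 4, 3, 2, 1, 6, 5, 4, 8, 9, 8, 4, 5, 3, 4, 8, 2, 3, 4, 5, 6, 7, 8, 9, 5, 4, 8, 4, 5, 6, 3, 4, 5, 2, 3, 4, 8, 9, 3, 4, 8, 4, 5, 6, 5, 4, 3] BM 2519424 = true := by decide +kernel
def kg6 : List (List ℕ) := [[14], [15], [16], [17], [18], [22], [23], [24, 22, 24], [24, 23, 24], [24, 25], [25, 24]]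
theorem cg6 : eqR KX RM ([[16]].map fun v => comP v kg6).flatten = true := by decide +kernel
theorem fg6 : finC ⟨KX, 12, [], kg6⟩ [.fixE [0],
  .mk (.dif (.m 1) (.m 0)),
  .sep 0 (.and (.and .pp (.img [0] .pp)) (.m 0)) 120 [(([], 1), [0, 1, 2, 3, 4, 5, 0, 2, 4, 1]), (([], 4), [0, 5, 0, 6, 9, 9, 5, 9, 6, 9, 5, 9, 9]), (([], 7), [0, 1, 2, 3, 4, 5, 0, 2, 4, 1]), (([7, 6, 5, 4, 3, 2], 1), [0, 1, 2, 3, 5, 4, 6, 9, 5, 4, 9, 6, 9, 5, 9, 4, 0]), (([9, 4, 8, 7, 6, 5, 4, 3, 2], 1), [0, 1, 2, 4, 6, 1, 4, 5, 2, 9, 5, 9, 6, 5, 1])],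
  .lev 0 ([7, 6, 5, 4, 8, 9, 3, 4, 8, 6, 5, 4, 3, 2], 1) 1944 [0, 1, 2, 3, 5, 4, 6, 4, 9, 5, 9, 6, 3, 9, 6, 9, 0] [[10, 6, 9], [4, 3, 2, 0, 0], [3, 5, 6, 1, 5], [5, 9, 6, 10, 5]],
  .clo [0, 0, 1, 0],
  .mk (.dif (.m 4) (.img [0, 1] (.m 0))),
  .lev 0 ([8], 4) 18 [0, 1, 1, 2, 3, 0] [[10, 5, 1, 9, 1], [6, 10, 5, 10, 6, 9, 5, 9, 6]],
  .clo [2, 1, 0, 0, 1, 0, 2, 1],
  .mk (.and (.m 2) (.img [0, 0, 2, 1, 0, 0, 1] (.m 3))),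
  .lev 0 ([9, 8, 6, 5, 4], 3) 4 [0, 1] [],
  .clo [3, 2, 1, 0, 0, 2, 3, 1, 0, 0, 2]] ⟨[KX.full], [[16]], kg6, 0, [], 1⟩ [4, 5, 1, 2, 3, 4, 8, 9, 8, 4, 5, 2, 3, 4, 8, 7, 6, 5, 4, 3, 2, 1, 8, 9, 7, 6, 5, 4, 8, 3, 4, 5, 6, 7, 9, 8, 5, 6, 3, 4, 5, 2, 3, 4, 8, 9, 4, 8, 3, 4, 5, 2, 3, 4, 8, 5, 6, 4, 3] BM 139968 = true := by decide +kernel
def kg3 : List (List ℕ) := [[10], [11], [12], [13], [16], [17], [18], [20], [26, 19], [26, 11, 26]]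
theorem cg3 : eqR KX RM ([[13]].map fun v => comP v kg3).flatten = true := by decide +kernel
theorem fg3 : finC ⟨KX, 12, [], kg3⟩ [.fixE [0],
  .sep 1 (.and (.and .pp (.img [0] .pp)) (.img [0, 0] .pp)) 18 [(([], 1), [0, 1, 2, 3, 6, 5, 0, 1, 7, 6]), (([], 2), [1, 2, 3, 6, 1, 0, 2, 1, 8, 3]), (([], 7), [0, 2, 3, 5, 6, 7, 4, 1, 5, 6]), (([7, 6, 5, 4, 3, 2], 1), [0, 1, 2, 3, 4, 6, 7, 5, 1, 0, 2, 7, 8, 1, 0]), (([3, 4, 8, 7, 6, 5, 4, 3, 2], 1), [0, 1, 2, 3, 4, 6, 5, 1, 0, 4, 2, 8, 1, 0])],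
  .lev 0 ([4, 5, 3, 4, 8, 7, 6, 5, 4, 3, 2], 1) 1944 [0, 1, 2, 3, 4, 7, 0, 6, 5, 8, 1, 1, 0, 7, 0] [[4, 2, 1, 1], [1, 5, 5, 3]],
  .clo [0, 0, 1, 0, 1, 0, 0],
  .mk (.dif (.dif (.dif (.dif (.and (.dif (.m 4) (.m 2)) (.img [0, 1] (.m 0))) (.m 0)) (.img [0, 0] (.m 0))) (.img [0, 1, 0] (.m 0))) (.img [0, 0, 1] (.m 0))),
  .sep 0 (.and .pp (.m 3)) 324 [(([5], 4), [0, 1, 0, 1]), (([9, 8, 5, 4, 3, 2], 1), [0, 1, 0, 1]), (([8, 9, 4, 8, 7, 6, 5, 4], 3), [0, 1, 0, 1]), (([9, 5, 4, 8, 7, 6, 5, 4, 3], 2), [0, 1, 0, 1]), (([9, 6, 5, 4, 8, 7, 6, 5, 4, 3, 2], 1), [0, 1, 0, 1]), (([4, 8, 9, 4, 5, 3, 4, 8, 6, 5, 4, 3, 2], 1), [0, 1, 0, 1]), (([8, 9, 8, 6, 3, 4, 5, 2, 3, 4, 8, 7, 6, 5, 4, 3, 2], 1), [0, 1, 0, 1]), (([7, 6, 5, 4, 8, 9, 5, 2, 3, 4, 8, 7,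 6, 5, 4, 3, 2], 1), [0, 1, 0, 1]), (([5, 3, 4, 8, 9, 8, 5, 6, 4, 5, 3, 4, 8, 7, 6, 5, 4, 3, 2], 1), [0, 1, 0, 1]), (([8, 6, 4, 5, 1, 2, 3, 4, 8, 9, 4, 5, 2, 3, 4, 8, 7, 6, 5, 4, 3, 2], 1), [0, 1, 0, 1]), (([9, 8, 7, 6, 4, 5, 1, 2, 3, 4, 8, 9, 6, 5, 2, 3, 4, 8, 7, 6, 5, 4, 3, 2], 1), [0, 1, 0, 1]), (([9, 8, 6, 4, 5, 1, 2, 3, 4, 8, 9, 6, 3, 4, 5, 2, 3, 4, 8, 7, 6, 5, 4, 3, 2], 1), [0, 1, 0, 1])],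
  .lev 0 ([5], 4) 9 [0, 1, 0, 1] [],
  .clo [2, 0, 0, 2, 1, 0, 0, 2, 0, 0, 1, 0, 0, 2, 0, 0]] ⟨[KX.full], [[13]], kg3, 0, [], 1⟩ [6, 5, 4, 8, 9, 2, 3, 4, 8, 4, 5, 6, 2, 3, 4, 5, 1, 2, 3, 4, 8, 9, 5, 6, 4, 5, 1, 2, 3, 4, 8, 7, 6, 5, 4, 3, 2, 1, 7, 4, 5, 6, 3, 4, 5, 2, 3, 4, 8, 9, 8, 4, 5, 3, 4, 8, 2, 3, 4, 5, 6, 7, 5, 4, 8, 9, 3, 4, 8, 5, 6, 4, 5, 3, 4, 8, 9, 6, 5, 3, 4, 8, 5, 6, 3, 4, 5, 2, 3, 4, 8, 2, 3, 4, 5, 6, 5, 2, 3, 2] BM 17496 = true := by decide +kernel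
theorem w0 : widOK KX 12 [14, 18] [([], 4), ([], 9), ([], 6), ([3, 4, 8, 9, 2, 3, 4, 8, 7, 6, 5, 4, 3, 2], 1), ([5, 6, 4, 5, 3, 4, 8, 9, 2, 3, 4, 8, 7, 6, 5, 4, 3, 2], 1), ([7, 6, 5, 4, 8, 9, 4, 5, 6, 3, 4, 5, 2, 3, 4, 8, 7, 6, 5, 4, 3, 2], 1)] 6 = true := by decide +kernel
theorem o0 : ord3 KX RM [14, 18] = true := by decide +kernel
theorem w1 : widOK KX 12 [16] [([], 2), ([8], 4), ([5], 4), ([9, 8, 6, 5], 4)] 4 = true := by decide +kernel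
theorem o1 : ord3 KX RM [16] = true := by decide +kernel
theorem w2 : widOK KX 12 [18] [([], 3), ([], 6), ([9], 8)] 3 = true := by decide +kernel
theorem o2 : ord3 KX RM [18] = true := by decide +kernel
theorem w3 : widOK KX 12 [13] [] 0 = true := by decide +kernel
theorem o3 : ord3 KX RM [13] = true := by decide +kernel

variable {G : Type*} [Group G] {D : Set G} {T : LModel G D}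

theorem val (h : M22 T) : Pc.Valid 3 (gw.map (wv T.el)) ds := Pc.valid_of_words (by decide) (by decide) (h.eqs p1)

theorem inj (h : M22 T) : Pc.Inj 3 (gw.map (wv T.el)) := h.inj (by decide) p2

theorem cardP (h : M22 T) : Nat.card (clW T.el gw) = 3 ^ 9 := by
  have := h.finite
  rw [← sub_map_wv]; exact (inj h).card (by decide) (val h)

theorem cls (h : M22 T) : ∀ g, RC ⊤ (xs.map (wv T.el)) g := by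
  have := h.finite
  have H : Pc.Hyp Cf0 (gw.map (wv T.el)) (fun a => wv T.el (getW [[19], [20]] a)) (RC ⊤ (xs.map (wv T.el))) :=
    hyp_of rfl rfl (val h) (inj h) rfl rfl rfl (fun _ h1 h2 => absurd h2 h1) RC.conj le_top
      fun a ha => ⟨h.ims p3 a ha, trivial⟩
  refine all_of_sylow (m := 3280076800) h.card (by decide) (cardP h) (fun _ h1 h2 => absurd h2 h1)
    (fun c => RC.conj c trivial) ?_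
  rw [← sub_map_wv]
  exact (H.segV ⟨Pc.all_nil, Pc.all_nil⟩ (h.leaves (by decide) p4 fun _ _ => trivial) p5).1.final (i := 0)
    (by decide)

theorem clW_one (el : ℕ → G) (w : List ℕ) :
    Subgroup.centralizer (clW el [w] : Set G) = Subgroup.centralizer {wv el w} := by
  rw [clW, Subgroup.centralizer_closure]; simp

theorem cenB (h : M22 T) : Subgroup.centralizer {wv T.el [18]} = clW T.el kg8 ∧ Nat.card (clW T.el kg8) = 2519424 :=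
  clW_one T.el _ ▸ h.cent (h.comm cg8) (fun _ => id) fg8

theorem cenC (h : M22 T) : Subgroup.centralizer {wv T.el [16]} = clW T.el kg6 ∧ Nat.card (clW T.el kg6) = 139968 :=
  clW_one T.el _ ▸ h.cent (h.comm cg6) (fun _ => id) fg6

theorem cenD (h : M22 T) : Subgroup.centralizer {wv T.el [13]} = clW T.el kg3 ∧ Nat.card (clW T.el kg3) = 17496 :=
  clW_one T.el _ ▸ h.cent (h.comm cg3) (fun _ => id) fg3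

/-- models of Fi22 with the classes of elements of order three -/
abbrev I22 (T : LModel G D) : Prop := Is3 KX 12 64561751654400 RM BM xs cs T

theorem i22_of (h : M22 T) : I22 T := ⟨h, cls h, by
  simp only [cs, List.forall_mem_cons, List.not_mem_nil, false_imp_iff, implies_true, and_true]
  exact ⟨(cenB h).1 ▸ (cenB h).2.le, (cenC h).1 ▸ (cenC h).2.le, (cenD h).1 ▸ (cenD h).2.le⟩⟩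

theorem exists_i22 [Finite G] (hD : IsThreeTranspositionGroup D) (ht : IsOfTypeM22 G D) :
    ∃ T : LModel G D, I22 T := by
  obtain ⟨e, he⟩ := ident22 hD ht
  obtain ⟨T, h, -⟩ := exists_m
  exact ⟨_, i22_of (h.comap e he)⟩

theorem sel (h : I22 T) {X : Subgroup G} (hX : Nat.card X = 3) {w : List ℕ} {m : ℕ} (hm : wid D X = m)
    (hw : ∀ e ∈ xs.zip [6, 4, 3, 0], e.1 = w ∨ e.2 ≠ m) : ∃ T' : LModel G D, I22 T' ∧ X = .zpowers (wv T'.el w) := by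
  refine h.sel hX ?_
  simp only [xs, List.zip_cons_cons, List.forall_mem_cons, List.not_mem_nil, false_imp_iff, implies_true,
    and_true, List.zip_nil_left] at hw ⊢
  rw [h.wid w0, h.wid w1, h.wid w2, h.wid w3, hm]; exact hw

end Cfsg.Agent.H18.F22
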