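import Cfsg.Agent.H18.F23M
import Cfsg.Agent.H18.F22C
import Cfsg.Agent.H18.Tower
import Cfsg.Agent.H51.FiC

/-! The classes of elements of order three of Fi23 and their centralisers. -/

set_option autoImplicit false
set_option Elab.async false
set_option maxRecDepth 100000
set_option exponentiation.threshold 400000

namespace Cfsg.Agent.H18.F23

open Cfsg.Agent.H14 Cfsg.Agent.H58 Cfsg.Agent.H95 Cfsg.Agent.H96

def gw : List (List ℕ) := [[17], [18], [19], [20], [21], [22], [23], [24], [25], [26], [27], [28], [29]]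
def ds : List Pc.Lev := [(0, [[[1, 2], [0, 0], [20, 19], [0, 0], [1485, 1512], [0, 0], [101, 91], [9, 18], [0, 0], [2, 1], [0, 0], [0, 0]], [[2, 1], [0, 0], [10, 11], [0, 0], [783, 756], [0, 0], [172, 182], [18, 9], [0, 0], [1, 2], [0, 0], [0, 0]]]), (0, [[[0, 0], [972, 1215], [56, 55], [0, 0], [137, 217], [81, 162], [0, 0], [0, 0], [0, 0], [1, 2], [0, 0]], [[0, 0], [1944, 1701], [28, 29], [0, 0], [190, 110], [162, 81], [0, 0], [0, 0], [0, 0], [2, 1], [0, 0]]]), (0, [[[60, 57], [1620, 1539], [0, 0], [111, 141], [0, 0], [54, 27], [0, 0], [3, 6], [0, 0], [0, 0]], [[30, 33], [810, 891], [0, 0], [222, 192], [0, 0], [27, 54], [0, 0], [6, 3], [0, 0], [0, 0]]]), (0, [[[6, 3], [6, 3], [0, 0], [0, 0], [4, 8], [2, 1], [0, 0], [0, 0], [0, 0]], [[3, 6], [3, 6], [0, 0], [0, 0], [5, 7], [1, 2], [0, 0], [0, 0], [0, 0]]]), (0, [[[18, 9], [0, 0], [60, 30], [0, 0], [6, 3], [0, 0], [0, 0], [0, 0]], [[9, 18], [0, 0],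 [57, 33], [0, 0], [3, 6], [0, 0], [0, 0], [0, 0]]]), (0, [[[495, 261], [0, 0], [0, 0], [9, 18], [0, 0], [0, 0], [0, 0]], [[504, 252], [0, 0], [0, 0], [18, 9], [0, 0], [0, 0], [0, 0]]]), (0, [[[18, 9], [18, 9], [0, 0], [0, 0], [0, 0], [0, 0]], [[9, 18], [9, 18], [0, 0], [0, 0], [0, 0], [0, 0]]]), (0, [[[27, 54], [0, 0], [0, 0], [0, 0], [0, 0]], [[54, 27], [0, 0], [0, 0], [0, 0], [0, 0]]]), (0, [[[0, 0], [0, 0], [0, 0], [0, 0]], [[0, 0], [0, 0], [0, 0], [0, 0]]]), (0, [[[0, 0], [0, 0], [0, 0]], [[0, 0], [0, 0], [0, 0]]]), (0, [[[0, 0], [0, 0]], [[0, 0], [0, 0]]]), (0, [[[0, 0]], [[0, 0]]]), (0, [[], []])]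
def xs : List (List ℕ) := [[17, 17, 29], [25, 25, 27, 27], [29], [25, 25, 27]]
def As : List (List ℕ) := [[1, 3, 9, 54, 162, 486, 729, 2187, 6561, 39366, 59049, 177147, 531441], [1, 6, 18, 54, 162, 243, 729, 4374, 13122, 19683, 118098, 354294, 531441], [2, 3, 18, 27, 162, 486, 1458, 4374, 6561, 19683, 59049, 354294, 1062882]]
def Cf0 : Pc.Cf := ⟨3, 13, ds, true, 0, 0, 0, ds, As, []⟩
def lv : List (ℕ × ℕ × ℕ) := [(10, 0, 0), (12, 19683, 1647), (10, 6561, 0), (10, 2187, 0), (10, 729, 0), (12, 243, 1647), (12, 177390, 27360), (12, 59292, 664), (13, 81, 466), (13, 531522, 26309), (13, 59130, 358), (13, 27, 490), (13, 531468, 5411), (13, 177174, 3583), (10, 9, 0), (10, 2196, 0), (12, 21879, 2382), (10, 4383, 0), (10, 738, 0), (13, 2277, 787), (10, 3, 0), (10, 6564, 0), (12, 26247, 588), (12, 203394, 267), (10, 13125, 0), (10, 732, 0), (13, 6591, 2244), (10, 1, 0), (10, 2188, 0), (10, 730, 0), (13, 20413,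 2808), (10, 2917, 0), (10, 1459, 0), (10, 3646, 0), (12, 244, 1647), (12, 2431, 637), (13, 973, 546), (10, 4, 0)]
def cs : List (List ℕ × ℕ) := [([29], 1632586752), ([25, 25, 27, 27], 37791360), ([25, 25, 27], 944784)]
def ls : List ℕ := [1, 2, 3, 4, 5, 6, 7, 8, 9]
def k0 : List ℕ × List ℕ × List ℕ × List ℕ := ([8, 9, 5, 6, 4, 5, 2, 3, 4, 8, 4, 5, 6, 3, 4, 5, 2, 3, 4, 8, 9, 4, 8, 5, 6, 3, 4, 5, 2, 3, 4, 8, 4, 5, 6, 3, 4, 5, 2, 3, 4, 3, 8, 9, 2, 3, 4, 8, 4, 5, 6, 3, 4, 5, 2, 3, 4, 8, 9, 4, 5, 3, 4, 8, 4, 5, 6, 3, 4, 5, 2, 3, 4, 8, 3, 4, 5, 6, 2, 3, 4, 5, 3, 4], [14, 18], [], [17, 17, 29])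
def k1 : List ℕ × List ℕ × List ℕ × List ℕ := ([9, 4, 8, 3, 4, 5, 2, 3, 4, 8, 9, 6, 5, 2, 3, 4, 8, 5, 6, 3, 4, 5, 2, 3, 4, 8, 2, 3, 4, 5, 6, 5], [16], [], [25, 25, 27, 27])
def k2 : List ℕ × List ℕ × List ℕ × List ℕ := ([8, 9, 2, 3, 4, 8, 4, 5, 6, 3, 4, 5, 2, 3, 4, 8, 9, 4, 5, 3, 4, 8, 4, 5, 6, 3, 4, 5, 2, 3, 4, 8, 3, 4, 5, 6, 2, 3, 4, 5, 3, 4], [18], [], [29])
def k3 : List ℕ × List ℕ × List ℕ × List ℕ := ([3, 4, 8, 9, 5, 4, 8, 4, 5, 6, 3, 4, 5, 2, 3, 4, 8, 9, 8, 6, 4, 5, 2, 3, 4, 8, 5, 6, 2, 3, 4, 5, 2, 3], [13], [], [25, 25, 27])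

theorem p1 : eqR KX RM (Pc.relW 3 gw ds) = true := by decide +kernel
theorem p2 : freeOK KX 3 gw [(574, [0, 1, 2, 3, 4, 6, 7, 10, 0, 3, 1, 11, 0]), (227, [1, 2, 4, 5, 8, 7, 2, 1, 3, 8, 0]), (574, [0, 1, 2, 3, 4, 7, 1, 2, 0, 1]), (0, [0, 1, 5, 0, 1, 5]), (0, [0, 4, 0, 4]), (0, [3, 3]), (267, [0, 1, 2, 0]), (227, [0, 1, 2, 0]), (574, [0, 1, 2, 0]), (0, []), (227, [0, 0]), (267, []), (2, [])] = true := by decide +kernel
theorem p3 : imAll KX RM gw [[11], [12], [13]] As = true := by decide +kernel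
theorem p4 : fxOK KX gw lv = true := by decide +kernel
theorem p5 : Pc.seg Cf0 [.cj 10 0 0 0 1, .cj 12 19683 0 19683 3, .cj 12 196830 81 19683 0, .cj 12 373977 162 19683 2, .br 11 19683, .cj 11 78732 27 19683 0, .cj 11 137781 54 19683 2, .br 10 19683, .sv, .e0 10 39366 [0] 1, .br 9 0, .cj 10 6561 0 6561 7, .cj 10 26244 54 124659 0, .cj 10 45927 27 124659 2, .br 9 6561, .sv, .e0 9 13122 [1] 1, .br 8 0, .cj 10 2187 0 2187 11, .cj 10 21870 81 179334 0, .cj 10 41553 162 179334 2, .br 9 2187, .cj 9 8748 1 828873 0, .cj 9 15309 2 1301265 2, .br 8 2187, .sv, .e0 8 4374 [1] 1, .br 7 0, .cj 10 729 0 729 15, .cj 10 20412 486 532170 0, .cj 10 40095 243 532170 2, .br 9 729, .cj 9 7290 18 1004562 0, .cj 9 13851 9 768366 2, .br 8 729, .cj 8 2916 3 827415 0, .cj 8 5103 6 945513 2, .br 7 729, .sv, .e0 7 1458 [2] 1, .br 6 0, .cj 12 243 0 243 19, .cj 12 177390 0 177390 21, .sv, .e0 12 354537 [1] 1, .br 11 243, .cj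 12 59292 0 59292 25, .cj 12 236439 730 59292 0, .cj 12 413586 1460 59292 2, .br 11 59292, .sv, .e0 11 118341 [1] 1, .br 10 243, .cj 10 19926 729 531684 0, .cj 10 39609 1458 1063125 2, .br 9 243, .cj 9 6804 81 243 0, .cj 9 13365 162 243 2, .br 8 243, .cj 8 2430 27 243 0, .cj 8 4617 54 243 2, .br 7 243, .pr 13 972, .cj 13 532413 19683 972 0, .cj 13 1063854 39366 972 2, .br 12 972, .cj 12 178119 13122 972 0, .cj 12 355266 6561 972 2, .br 11 972, .cj 11 60021 4374 972 0, .cj 11 119070 2187 972 2, .br 10 972, .cj 10 20655 729 532413 0, .cj 10 40338 1458 1063854 2, .br 9 972, .cj 9 7533 81 178119 0, .cj 9 14094 162 355266 2, .br 8 972, .cj 8 3159 27 60021 0, .cj 8 5346 54 119070 2, .br 7 972, .sv, .e0 7 1701 [0, 2] 1, .br 6 243, .sv, .e0 6 486 [0] 1, .br 5 0, .cj 13 81 0 81 33, .cj 13 531522 0 531522 35, .sv, .e0 13 1062963 [0, 2] 1, .br 12 81, .cj 12 177228 39366 81 0, .cj 12 354375 19683 81 2, .br 11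 81, .cj 13 59130 0 59130 39, .cj 13 590571 4392 59130 0, .cj 13 1122012 2196 59130 2, .br 12 59130, .cj 12 236277 39366 59130 0, .cj 12 413424 19683 59130 2, .br 11 59130, .sv, .e0 11 118179 [0, 1] 1, .br 10 81, .cj 10 19764 4374 354375 0, .cj 10 39447 2187 177228 2, .br 9 81, .cj 9 6642 486 81 0, .cj 9 13203 243 81 2, .br 8 81, .pr 12 2268, .cj 12 179415 39366 2268 0, .cj 12 356562 19683 2268 2, .br 11 2268, .cj 11 61317 729 2268 0, .cj 11 120366 1458 2268 2, .br 10 2268, .cj 10 21951 4374 356562 0, .cj 10 41634 2187 179415 2, .br 9 2268, .cj 9 8829 486 1065150 0, .cj 9 15390 243 533709 2, .br 8 2268, .sv, .e0 8 4455 [0, 1] 1, .br 7 81, .cj 7 810 27 81 0, .cj 7 1539 54 81 2, .br 6 81, .cj 6 324 3 13203 0, .cj 6 567 6 6642 2, .br 5 81, .sv, .e0 5 162 [0] 1, .br 4 0, .cj 13 27 0 27 47, .cj 13 531468 0 531468 49, .sv, .e0 13 1062909 [2] 1, .br 12 27, .cj 13 177174 0 177174 53, .cj 13 708615 13128 177174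 0, .cj 13 1240056 6564 177174 2, .br 12 177174, .sv, .e0 12 354321 [2] 1, .br 11 27, .cj 11 59076 39366 27 0, .cj 11 118125 19683 27 2, .br 10 27, .cj 10 19710 6561 118125 0, .cj 10 39393 13122 59076 2, .br 9 27, .pr 11 6588, .cj 11 65637 39366 6588 0, .cj 11 124686 19683 6588 2, .br 10 6588, .cj 10 26271 6561 124686 0, .cj 10 45954 13122 65637 2, .br 9 6588, .sv, .e0 9 13149 [0, 1] 1, .br 8 27, .cj 8 2214 486 27 0, .cj 8 4401 243 27 2, .br 7 27, .cj 7 756 162 27 0, .cj 7 1485 81 27 2, .br 6 27, .cj 6 270 9 4401 0, .cj 6 513 18 2214 2, .br 5 27, .cj 5 108 1 1485 0, .cj 5 189 2 756 2, .br 4 27, .sv, .e0 4 54 [0] 1, .br 3 0, .cj 10 9 0 9 61, .cj 10 19692 162 354303 0, .cj 10 39375 81 354303 2, .br 9 9, .cj 9 6570 729 295254 0, .cj 9 13131 1458 236205 2, .br 8 9, .cj 10 2196 0 2196 63, .cj 12 21879 0 21879 65, .cj 12 199026 81 21879 0, .cj 12 376173 162 21879 2, .br 11 21879, .cj 11 80928 731 907614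 0, .cj 11 139977 1459 1439055 2, .br 10 21879, .sv, .e0 10 41562 [0] 1, .br 9 2196, .cj 9 8757 729 1301274 0, .cj 9 15318 1458 828882 2, .br 8 2196, .cj 10 4383 0 4383 69, .cj 10 24066 81 181530 0, .cj 10 43749 162 181530 2, .br 9 4383, .cj 9 10944 729 712971 0, .cj 9 17505 1458 1244412 2, .br 8 4383, .br 7 9, .cj 10 738 0 738 71, .cj 10 20421 486 532179 0, .cj 10 40104 243 532179 2, .br 9 738, .cj 9 7299 729 473130 0, .cj 9 13860 1458 59787 2, .br 8 738, .cj 8 2925 3 827424 0, .cj 8 5112 6 945522 2, .br 7 738, .sv, .e0 7 1467 [1, 2] 1, .br 6 9, .cj 6 252 54 4383 0, .cj 6 495 27 4383 2, .br 5 9, .pr 12 90, .cj 12 177237 39366 90 0, .cj 12 354384 19683 90 2, .br 11 90, .cj 11 59139 972 177237 0, .cj 11 118188 1084509 354384 2, .br 10 90, .cj 10 19773 4374 354384 0, .cj 10 39456 2187 177237 2, .br 9 90, .cj 9 6651 729 295335 0, .cj 9 13212 1458 236286 2, .br 8 90, .cj 13 2277 0 2277 75, .cj 13 533718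 59049 2277 0, .cj 13 1065159 118098 2277 2, .br 12 2277, .cj 12 179424 39366 2277 0, .cj 12 356571 19683 2277 2, .br 11 2277, .cj 11 61326 1084509 356571 0, .cj 11 120375 972 179424 2, .br 10 2277, .cj 10 21960 4374 356571 0, .cj 10 41643 2187 179424 2, .br 9 2277, .cj 9 8838 729 1301355 0, .cj 9 15399 1458 828963 2, .br 8 2277, .pr 12 4464, .cj 12 181611 39366 4464 0, .cj 12 358758 19683 4464 2, .br 11 4464, .cj 11 63513 1460 890199 0, .cj 11 122562 730 1421640 2, .br 10 4464, .cj 10 24147 4374 358758 0, .cj 10 43830 2187 181611 2, .br 9 4464, .cj 9 11025 729 713052 0, .cj 9 17586 1458 1244493 2, .br 8 4464, .br 7 90, .cj 7 819 30 1288233 0, .cj 7 1548 19743 940500 2, .br 6 90, .cj 6 333 54 306999 0, .cj 6 576 27 255240 2, .br 5 90, .sv, .e0 5 171 [0] 1, .br 4 9, .pr 8 36, .cj 8 2223 486 36 0, .cj 8 4410 243 36 2, .br 7 36, .cj 7 765 162 275598 0, .cj 7 1494 81 314964 2, .br 6 36, .cj 6 279 54 36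 0, .cj 6 522 27 2223 2, .br 5 36, .cj 5 117 1 1494 0, .cj 5 198 2 765 2, .br 4 36, .sv, .e0 4 63 [0] 1, .br 3 9, .sv, .e0 3 18 [1] 1, .br 2 0, .cj 10 3 0 3 83, .cj 10 19686 27 59052 0, .cj 10 39369 54 59052 2, .br 9 3, .cj 10 6564 0 6564 85, .cj 12 26247 0 26247 87, .cj 12 203394 0 203394 89, .sv, .e0 12 380541 [2] 1, .br 11 26247, .cj 11 85296 27 26247 0, .cj 11 144345 54 26247 2, .br 10 26247, .sv, .e0 10 45930 [0] 1, .br 9 6564, .cj 10 13125 0 13125 95, .cj 10 32808 54 131223 0, .cj 10 52491 27 131223 2, .br 9 13125, .br 8 3, .cj 8 2190 1458 295248 0, .cj 8 4377 729 472395 2, .br 7 3, .cj 10 732 0 732 97, .cj 10 20415 486 532173 0, .cj 10 40098 243 532173 2, .br 9 732, .cj 9 7293 18 1004565 0, .cj 9 13854 9 768369 2, .br 8 732, .cj 8 2919 1458 177879 0, .cj 8 5106 729 414075 2, .br 7 732, .sv, .e0 7 1461 [2] 1, .br 6 3, .cj 6 246 162 13125 0, .cj 6 489 81 13125 2, .br 5 3, .pr 9 84, .cj 9 6645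 486 84 0, .cj 9 13206 243 84 2, .br 8 84, .cj 8 2271 1458 492159 0, .cj 8 4458 729 334695 2, .br 7 84, .cj 7 813 27 334695 0, .cj 7 1542 54 492159 2, .br 6 84, .cj 6 327 162 84 0, .cj 6 570 81 6645 2, .br 5 84, .sv, .e0 5 165 [0] 1, .br 4 3, .pr 11 30, .cj 11 59079 39366 30 0, .cj 11 118128 19683 30 2, .br 10 30, .cj 10 19713 6561 118128 0, .cj 10 39396 13122 59079 2, .br 9 30, .cj 13 6591 0 6591 103, .cj 13 538032 177147 6591 0, .cj 13 1069473 354294 6591 2, .br 12 6591, .cj 12 183738 21384 6591 0, .cj 12 360885 1083780 6591 2, .br 11 6591, .cj 11 65640 39366 6591 0, .cj 11 124689 19683 6591 2, .br 10 6591, .cj 10 26274 6561 124689 0, .cj 10 45957 13122 65640 2, .br 9 6591, .pr 11 13152, .cj 11 72201 39366 13152 0, .cj 11 131250 19683 13152 2, .br 10 13152, .cj 10 32835 6561 131250 0, .cj 10 52518 13122 72201 2, .br 9 13152, .br 8 30, .cj 8 2217 1458 295275 0, .cj 8 4404 729 472422 2, .br 7 30,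 .cj 7 759 39546 621138 0, .cj 7 1488 90 1209441 2, .br 6 30, .cj 6 273 162 1374924 0, .cj 6 516 81 1022088 2, .br 5 30, .pr 8 111, .cj 8 2298 1458 492186 0, .cj 8 4485 729 334722 2, .br 7 111, .cj 7 840 27 216624 0, .cj 7 1569 54 433137 2, .br 6 111, .cj 6 354 162 1224102 0, .cj 6 597 81 680997 2, .br 5 111, .sv, .e0 5 192 [2] 1, .br 4 30, .sv, .e0 4 57 [0] 1, .br 3 3, .cj 3 12 2 3 0, .cj 3 21 1 3 2, .br 2 3, .sv, .e0 2 6 [1] 1, .br 1 0, .cj 10 1 0 1 111, .cj 10 19684 243 1062883 0, .cj 10 39367 486 1062883 2, .br 9 1, .cj 9 6562 4374 649540 0, .cj 9 13123 2187 590491 2, .br 8 1, .cj 10 2188 0 2188 113, .cj 10 21871 243 1065070 0, .cj 10 41554 486 1065070 2, .br 9 2188, .cj 9 8749 4374 120286 0, .cj 9 15310 2187 1124119 2, .br 8 2188, .sv, .e0 8 4375 [1] 1, .br 7 1, .cj 10 730 0 730 117, .cj 13 20413 0 20413 119, .cj 13 551854 486 20413 0, .cj 13 1083295 243 20413 2, .br 12 20413, .cj 12 197560 118098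 20413 0, .cj 12 374707 59049 20413 2, .br 11 20413, .cj 11 79462 4383 1437589 0, .cj 11 138511 2205 1260442 2, .br 10 20413, .sv, .e0 10 40096 [0] 1, .br 9 730, .cj 9 7291 4374 768367 0, .cj 9 13852 2187 1004563 2, .br 8 730, .cj 10 2917 0 2917 123, .cj 10 22600 81 180064 0, .cj 10 42283 162 180064 2, .br 9 2917, .cj 9 9478 4374 239113 0, .cj 9 16039 2187 1538191 2, .br 8 2917, .sv, .e0 8 5104 [1] 1, .br 7 730, .cj 10 1459 0 1459 127, .cj 10 21142 486 532900 0, .cj 10 40825 243 532900 2, .br 9 1459, .cj 9 8020 4374 887194 0, .cj 9 14581 2187 710047 2, .br 8 1459, .cj 10 3646 0 3646 129, .cj 10 23329 486 535087 0, .cj 10 43012 243 535087 2, .br 9 3646, .cj 9 10207 4374 357940 0, .cj 9 16768 2187 1243675 2, .br 8 3646, .sv, .e0 8 5833 [1] 1, .br 7 1459, .br 6 1, .cj 12 244 0 244 133, .cj 12 177391 118098 244 0, .cj 12 354538 59049 244 2, .br 11 244, .cj 11 59293 398196 1063126 0, .cj 11 118342 2268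 531685 2, .br 10 244, .cj 10 19927 729 531685 0, .cj 10 39610 1458 1063126 2, .br 9 244, .cj 9 6805 4374 649783 0, .cj 9 13366 2187 590734 2, .br 8 244, .cj 12 2431 0 2431 135, .cj 12 179578 118098 2431 0, .cj 12 356725 59049 2431 2, .br 11 2431, .cj 11 61480 572022 533872 0, .cj 11 120529 1701 1065313 2, .br 10 2431, .cj 10 22114 729 651970 0, .cj 10 41797 1458 1124362 2, .br 9 2431, .cj 9 8992 4374 120529 0, .cj 9 15553 2187 1124362 2, .br 8 2431, .sv, .e0 8 4618 [1] 1, .br 7 244, .cj 13 973 0 973 139, .cj 13 532414 19683 973 0, .cj 13 1063855 39366 973 2, .br 12 973, .cj 12 178120 118098 973 0, .cj 12 355267 59049 973 2, .br 11 973, .cj 11 60022 2268 532414 0, .cj 11 119071 398196 1063855 2, .br 10 973, .cj 10 20656 729 532414 0, .cj 10 40339 1458 1063855 2, .br 9 973, .cj 9 7534 4374 768610 0, .cj 9 14095 2187 1004806 2, .br 8 973, .pr 12 3160, .cj 12 180307 118098 3160 0, .cj 12 357454 59049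 3160 2, .br 11 3160, .cj 11 62209 4383 1420336 0, .cj 11 121258 2205 1243189 2, .br 10 3160, .cj 10 22843 729 652699 0, .cj 10 42526 1458 1125091 2, .br 9 3160, .cj 9 9721 4374 239356 0, .cj 9 16282 2187 1538434 2, .br 8 3160, .sv, .e0 8 5347 [1] 1, .br 7 973, .pr 13 1702, .cj 13 533143 19683 1702 0, .cj 13 1064584 39366 1702 2, .br 12 1702, .cj 12 178849 118098 1702 0, .cj 12 355996 59049 1702 2, .br 11 1702, .cj 11 60751 2196 1418878 0, .cj 11 119800 4392 1241731 2, .br 10 1702, .cj 10 21385 729 533143 0, .cj 10 41068 1458 1064584 2, .br 9 1702, .cj 9 8263 4374 887437 0, .cj 9 14824 2187 710290 2, .br 8 1702, .pr 12 3889, .cj 12 181036 118098 3889 0, .cj 12 358183 59049 3889 2, .br 11 3889, .cj 11 62938 972 1066771 0, .cj 11 121987 1084509 535330 2, .br 10 3889, .cj 10 23572 729 653428 0, .cj 10 43255 1458 1125820 2, .br 9 3889, .cj 9 10450 4374 358183 0, .cj 9 17011 2187 1243918 2, .br 8 3889,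 .sv, .e0 8 6076 [1] 1, .br 7 1702, .br 6 244, .sv, .e0 6 487 [0] 1, .br 5 1, .cj 5 82 54 1459 0, .cj 5 163 27 1459 2, .br 4 1, .pr 7 28, .cj 7 757 162 28 0, .cj 7 1486 81 28 2, .br 6 28, .cj 6 271 9 4402 0, .cj 6 514 18 2215 2, .br 5 28, .cj 5 109 54 28 0, .cj 5 190 27 757 2, .br 4 28, .sv, .e0 4 55 [0] 1, .br 3 1, .cj 3 10 3 1 0, .cj 3 19 6 1 2, .br 2 1, .cj 10 4 0 4 149, .cj 10 19687 243 1062886 0, .cj 10 39370 486 1062886 2, .br 9 4, .cj 9 6565 4374 1180984 0, .cj 9 13126 2187 59053 2, .br 8 4, .cj 8 2191 1458 295249 0, .cj 8 4378 729 472396 2, .br 7 4, .pr 9 733, .cj 9 7294 4374 1299811 0, .cj 9 13855 2187 473125 2, .br 8 733, .cj 8 2920 1458 177880 0, .cj 8 5107 729 414076 2, .br 7 733, .pr 9 1462, .cj 9 8023 4374 1418638 0, .cj 9 14584 2187 178609 2, .br 8 1462, .cj 8 3649 1458 237658 0, .cj 8 5836 729 355756 2, .br 7 1462, .br 6 4, .cj 6 247 162 13126 0, .cj 6 490 81 13126 2, .br 5 4, .cj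 5 85 54 1587280 0, .cj 5 166 27 1567840 2, .br 4 4, .pr 6 31, .cj 6 274 162 1374925 0, .cj 6 517 81 1022089 2, .br 5 31, .cj 5 112 54 1367149 0, .cj 5 193 27 1110055 2, .br 4 31, .sv, .e0 4 58 [0] 1, .br 3 4, .cj 3 13 3 4 0, .cj 3 22 6 4 2, .br 2 4, .sv, .e0 2 7 [1] 1, .br 1 1, .sv, .e0 1 2 [2] 1, .br 0 0] [] ([] ++ lv.map fun e => Pc.key e.1 e.2.1) [1] ([66, 259, 1989, 1797, 15623, 248905, 202249, 155593, 233353, 186697, 1306443, 140041, 195, 1925, 7110, 5382, 46856, 1679819, 13017229, 580, 2309, 5766, 47240, 1400267, 1733, 421642, 11339149, 34013966, 5190, 145161, 3784332, 34017422, 15559, 62216, 3794700, 11352973, 46664, 139977, 419914, 1259723] ++ lv.map fun e => Pc.key e.1 e.2.1) = true := by decide +kernel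
theorem p6 : eqR KX RM [([11], H96.F23.tw)] = true := by decide +kernel
theorem l0 : lkOK KX F22.KX RM F22.RM ls k0 = true := by decide +kernel
theorem l1 : lkOK KX F22.KX RM F22.RM ls k1 = true := by decide +kernel
theorem l2 : lkOK KX F22.KX RM F22.RM ls k2 = true := by decide +kernel
theorem l3 : lkOK KX F22.KX RM F22.RM ls k3 = true := by decide +kernel
theorem w0 : widOK KX 15 [17, 17, 29] [([], 10), ([], 6), ([], 4), ([], 9), ([3, 4, 5, 6, 7, 10, 8, 9, 4, 8, 5, 6, 4, 5, 2, 3, 4, 8, 7, 6, 5, 4, 3, 2], 1), ([3, 4, 5, 6, 7, 10, 4, 5, 3, 4, 8, 9, 4, 8, 5, 6, 4, 5, 2, 3, 4, 8, 7, 6, 5, 4, 3, 2], 1), ([3, 4, 5, 6, 7, 10, 2, 3, 4, 5, 1, 2, 3, 4, 8, 9, 4, 8, 6, 3, 4, 5, 2, 3, 4, 8, 7, 6, 5, 4, 3, 2], 1)] 7 = true := by decide +kernel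
theorem o0 : ord3 KX RM [17, 17, 29] = true := by decide +kernel
theorem w1 : widOK KX 15 [25, 25, 27, 27] [([], 10), ([], 3), ([5, 4, 3], 2), ([8, 4, 3], 2), ([4, 8, 5, 4], 3)] 5 = true := by decide +kernel
theorem o1 : ord3 KX RM [25, 25, 27, 27] = true := by decide +kernel
theorem f1 : Nat.beq (cntM KX 15 (fixM KX.nets KX.N 15 k1.2.2.2)) 135 = true := by decide +kernel
theorem w2 : widOK KX 15 [29] [([], 10), ([], 6), ([], 3), ([9], 8)] 4 = true := by decide +kernel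
theorem o2 : ord3 KX RM [29] = true := by decide +kernel
theorem f2 : Nat.beq (cntM KX 15 (fixM KX.nets KX.N 15 k2.2.2.2)) 324 = true := by decide +kernel
theorem w3 : widOK KX 15 [25, 25, 27] [([], 10)] 1 = true := by decide +kernel
theorem o3 : ord3 KX RM [25, 25, 27] = true := by decide +kernel
theorem f3 : Nat.beq (cntM KX 15 (fixM KX.nets KX.N 15 k3.2.2.2)) 27 = true := by decide +kernel

variable {G : Type*} [Group G] {D : Set G} {T : LModel G D}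

theorem val (h : M23 T) : Pc.Valid 3 (gw.map (wv T.el)) ds := Pc.valid_of_words (by decide) (by decide) (h.eqs p1)

theorem inj (h : M23 T) : Pc.Inj 3 (gw.map (wv T.el)) := h.inj (by decide) p2

theorem cardP (h : M23 T) : Nat.card (clW T.el gw) = 3 ^ 13 := by
  have := h.finite
  rw [← sub_map_wv]; exact (inj h).card (by decide) (val h)

/-- each element of order three fixes a point -/
theorem fixes (h : M23 T) : ∀ g : G, g ^ 3 = 1 → ∃ d ∈ D, Commute g d := by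
  have := h.finite
  have k : ∀ c g : G, ((c⁻¹ * g * c) ^ 3 = 1 → ∃ d ∈ D, Commute (c⁻¹ * g * c) d) → g ^ 3 = 1 → ∃ d ∈ D, Commute g d :=
    fun c g h1 h2 => by
      obtain ⟨d, hd, h3⟩ := h1 (by simpa [cj] using (cj_pow c⁻¹ g 3).symm.trans (by rw [h2, cj_one']))
      exact ⟨_, T.conj_mem c hd, by simpa [cj, mul_assoc] using (commute_cj c).2 h3⟩
  have H : Pc.Hyp Cf0 (gw.map (wv T.el)) (fun a => wv T.el (getW [[11], [12], [13]] a))
      (fun g => g ^ 3 = 1 → ∃ d ∈ D, Commute g d) :=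
    hyp_of (H := ⊤) rfl rfl (val h) (inj h) rfl rfl rfl (fun _ h1 h2 => absurd h2 h1) (fun c _ => k c) le_top
      fun a ha => ⟨h.ims p3 a ha, trivial⟩
  refine all_of_sylow (m := 2565020057600) h.card (by decide) (cardP h) (fun _ h1 h2 => absurd h2 h1) k ?_
  rw [← sub_map_wv]
  exact (H.segV ⟨Pc.all_nil, Pc.all_nil⟩ (h.fx p4 fun _ d hd hc _ => ⟨d, hd, hc⟩) p5).1.final (i := 0) (by decide)

/-- models of Fi23 with the classes of elements of order three -/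
abbrev I23 (T : LModel G D) : Prop := Is3 KX 15 4089470473293004800 RM RM xs cs T

theorem exists_i : ∃ T : LModel Spor.Fi23 D23, I23 T ∧ ∀ y < 11, T.el y = T23.el y := by
  obtain ⟨T, h, h1⟩ := exists_m
  obtain ⟨T', h', h2⟩ := F22.exists_m
  obtain ⟨e, he, -, hl⟩ := iso_nb23
  obtain ⟨q1, q2⟩ := H51.Fi.step_of tt23 (fun g _ h => conj23 g h) t23_mem closure_nb23 cent_cent23
  have q3 := q1.equiv_comp e
  rw [q2, he] at q3
  have k : Lk T T' t23 _ ls := ⟨class23, t23_mem, q3, fun x hx => by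
    have a : 1 ≤ x ∧ x ≤ 9 := by revert x; decide
    rw [h1 x (by omega), h2 x (by omega)]
    exact ⟨(letter_mem_nb23 x a.1 a.2).2.2.symm, hl x a.1 a.2⟩⟩
  have i := F22.i22_of h'
  refine ⟨T, ⟨h, fun g g3 => ?_, ?_⟩, h1⟩
  · obtain ⟨d, hd, hc⟩ := fixes h g g3
    refine k.rc h i (l := [k0, k1, k2, k3]) ?_ rfl (by decide) hd hc g3
    simp only [List.forall_mem_cons, List.not_mem_nil, false_imp_iff, implies_true, and_true]
    exact ⟨l0, l1, l2, l3⟩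
  · simp only [cs, List.forall_mem_cons, List.not_mem_nil, false_imp_iff, implies_true, and_true]
    exact ⟨k.cen h i l2 (m := 2519424) (by decide) f2, k.cen h i l1 (m := 139968) (by decide) f1,
      k.cen h i l3 (m := 17496) (by decide) f3⟩

theorem exists_i23 [Finite G] (hD : IsThreeTranspositionGroup D) (ht : IsOfTypeM23 G D) :
    ∃ T : LModel G D, I23 T := by
  obtain ⟨e, he⟩ := ident23 hD ht
  obtain ⟨T, h, -⟩ := exists_i
  exact ⟨_, h.comap e he⟩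

theorem sel (h : I23 T) {X : Subgroup G} (hX : Nat.card X = 3) {w : List ℕ} {m : ℕ} (hm : wid D X = m)
    (hw : ∀ e ∈ xs.zip [7, 5, 4, 1], e.1 = w ∨ e.2 ≠ m) : ∃ T' : LModel G D, I23 T' ∧ X = .zpowers (wv T'.el w) := by
  refine h.sel hX ?_
  simp only [xs, List.zip_cons_cons, List.forall_mem_cons, List.not_mem_nil, false_imp_iff, implies_true,
    and_true, List.zip_nil_left] at hw ⊢
  rw [h.wid w0, h.wid w1, h.wid w2, h.wid w3, hm]; exact hw

end Cfsg.Agent.H18.F23
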