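/-
Groups with an involution `t` such that `C(t) = ⟨t⟩ × S₄`: set-up and fusion of involutions.
-/
import Cfsg.Agent.H42.Index2
import Cfsg.Agent.H18.Transfer2
import Cfsg.Agent.H49.Hall
import Cfsg.Agent.S0215

set_option autoImplicit false
set_option linter.unusedSectionVars false

namespace Cfsg.Agent.H18.S6

open Subgroup Equiv

abbrev S4 := Perm (Fin 4)
def z0 : S4 := swap 0 1 * swap 2 3
def z1 : S4 := swap 0 2 * swap 1 3
def b0 : S4 := swap 0 1
def a0 : S4 := swap 0 2 * swap 1 3 * swap 0 1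
def r0 : S4 := swap 1 2 * swap 2 3

theorem f1 : ∀ x : S4, x * x = 1 → x = 1 ∨ (∃ y, y * z0 * y⁻¹ = x) ∨ (∃ y, y * b0 * y⁻¹ = x) := by
  decide +kernel
theorem f2 : a0 * a0 = z0 := by decide +kernel
theorem f3 : ∀ x : S4, x * z0 = z0 * x → x * x = 1 ∨ x * x = z0 := by decide +kernel
theorem f4 : ∀ x y : S4, x * z0 = z0 * x → y * z0 = z0 * y →
    x * y * x⁻¹ * y⁻¹ = 1 ∨ x * y * x⁻¹ * y⁻¹ = z0 := by decide +kernel
theorem f5 : ∀ x : S4, (∀ y, y * x = x * y) → x = 1 := by decide +kernel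
theorem f6 : (Finset.univ.filter fun x : S4 => x * z0 = z0 * x).card = 8 := by decide +kernel
theorem f7 : ∀ x : S4, x * z0 = z0 * x →
    ∃ i : Fin 4, x = a0 ^ (i : ℕ) ∨ x = a0 ^ (i : ℕ) * b0 := by decide +kernel
theorem f8 : ∀ y y' : S4, y * z0 * y⁻¹ * (y' * z0 * y'⁻¹) = 1 ∨
    ∃ w, w * z0 * w⁻¹ = y * z0 * y⁻¹ * (y' * z0 * y'⁻¹) := by decide +kernel
theorem f9 : ∀ x : S4, x * z0 = z0 * x → z0 * x = x * z0 := fun _ h => h.symm
theorem z0_ne : z0 ≠ 1 := by decide +kernel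
theorem z0_sq : z0 * z0 = 1 := by decide +kernel
theorem b0_sq : b0 * b0 = 1 := by decide +kernel
theorem b0_z0 : b0 * z0 = z0 * b0 := by decide +kernel
theorem a0_z0 : a0 * z0 = z0 * a0 := by decide +kernel

theorem card_S4 : Nat.card S4 = 24 := by rw [Nat.card_perm, Nat.card_fin]; rfl

theorem card_D0 : Nat.card (centralizer ({z0} : Set S4)) = 8 := by
  rw [← f6, ← Fintype.card_subtype, ← Nat.card_eq_fintype_card]
  exact Nat.card_congr (Equiv.subtypeEquivRight fun x => mem_centralizer_singleton_iff)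

variable {G : Type*} [Group G] [Finite G]

/-- `C(t) = ⟨t⟩ × φ(S₄)` has odd index -/
structure Cfg0 (t : G) (φ : S4 →* G) : Prop where
  ht : orderOf t = 2
  inj : Function.Injective φ
  comm : ∀ x, t * φ x = φ x * t
  ne : ∀ x, φ x ≠ t
  cent : ∀ g, g * t = t * g → ∃ x, g = φ x ∨ g = t * φ x
  odd : Odd (centralizer ({t} : Set G)).index

/-- the Sylow 2-subgroup `⟨t⟩ × D₈` -/
def Sy (t : G) (φ : S4 →* G) : Subgroup G := (centralizer ({z0} : Set S4)).map φ ⊔ zpowers t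

namespace Cfg0

variable {t : G} {φ : S4 →* G} (h : Cfg0 t φ)
include h

theorem tt : t * t = 1 := by rw [← sq, ← h.ht, pow_orderOf_eq_one]
theorem tinv : t⁻¹ = t := inv_eq_of_mul_eq_one_right h.tt
theorem t_ne : t ≠ 1 := fun e => h.ne 1 (by rw [map_one, e])

theorem norm (X : Subgroup S4) : t ∈ normalizer ((X.map φ : Subgroup G) : Set G) := by
  refine centralizer_le_normalizer _ ?_
  rintro _ ⟨x, -, rfl⟩
  exact (h.comm x).symm

theorem mem_sup (X : Subgroup S4) {g : G} :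
    g ∈ X.map φ ⊔ zpowers t ↔ ∃ x ∈ X, g = φ x ∨ g = t * φ x := by
  rw [H42.mem_sup_zpowers (h.norm X) (by rw [h.tt]; exact one_mem _)]
  constructor
  · rintro (⟨x, hx, e⟩ | ⟨x, hx, e⟩)
    · exact ⟨x, hx, Or.inl e.symm⟩
    · exact ⟨x, hx, Or.inr (by rw [h.comm, e]; group)⟩
  · rintro ⟨x, hx, e | e⟩
    · exact Or.inl ⟨x, hx, e.symm⟩
    · exact Or.inr ⟨x, hx, by rw [e, h.comm]; group⟩

theorem card_sup (X : Subgroup S4) : Nat.card ↥(X.map φ ⊔ zpowers t) = 2 * Nat.card X := by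
  rw [H42.card_sup_zpowers (h.norm X) (by rw [h.tt]; exact one_mem _)
    (fun ⟨x, _, e⟩ => h.ne x e), card_map_of_injective h.inj]

theorem cent_eq : centralizer ({t} : Set G) = (⊤ : Subgroup S4).map φ ⊔ zpowers t := by
  ext g
  rw [h.mem_sup, mem_centralizer_singleton_iff]
  constructor
  · intro e
    obtain ⟨x, hx⟩ := h.cent g e
    exact ⟨x, trivial, hx⟩
  · rintro ⟨x, -, rfl | rfl⟩
    · exact (h.comm x).symm
    · rw [mul_assoc, ← h.comm]

theorem card_cent : Nat.card (centralizer ({t} : Set G)) = 48 := by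
  rw [h.cent_eq, h.card_sup, card_top, card_S4]

theorem card_Sy : Nat.card (Sy t φ) = 16 := by rw [Sy, h.card_sup, card_D0]

theorem mem_Sy {g : G} : g ∈ Sy t φ ↔ ∃ x, x * z0 = z0 * x ∧ (g = φ x ∨ g = t * φ x) := by
  rw [Sy, h.mem_sup]
  simp only [mem_centralizer_singleton_iff]

theorem exists_sylow : ∃ S : Sylow 2 G, (S : Subgroup G) = Sy t φ := by
  have : Fact (Nat.Prime 2) := ⟨Nat.prime_two⟩
  refine ⟨IsPGroup.toSylow (IsPGroup.of_card (n := 4) h.card_Sy) ?_, rfl⟩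
  have h1 := (Sy t φ).card_mul_index
  have h2 := (centralizer ({t} : Set G)).card_mul_index
  rw [h.card_Sy] at h1
  rw [h.card_cent] at h2
  have := Nat.odd_iff.1 h.odd
  omega

theorem Sy_comm {g : G} (hg : g ∈ Sy t φ) : g * t = t * g := by
  obtain ⟨x, -, rfl | rfl⟩ := h.mem_Sy.1 hg
  · exact (h.comm x).symm
  · rw [mul_assoc, ← h.comm]

theorem Sy_comm_z {g : G} (hg : g ∈ Sy t φ) : g * φ z0 = φ z0 * g := by
  obtain ⟨x, hx, rfl | rfl⟩ := h.mem_Sy.1 hg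
  · rw [← map_mul, hx, map_mul]
  · rw [mul_assoc, ← map_mul, hx, map_mul, ← mul_assoc, h.comm, mul_assoc]

theorem t_mul_sq (x : S4) : t * φ x * (t * φ x) = φ (x * x) := by
  calc t * φ x * (t * φ x) = t * (φ x * t) * φ x := by group
    _ = (t * t) * (φ x * φ x) := by rw [← h.comm]; group
    _ = _ := by rw [h.tt, one_mul, map_mul]

theorem conj_t_mul (y x : S4) : φ y * (t * φ x) * (φ y)⁻¹ = t * φ (y * x * y⁻¹) := by
  rw [map_mul, map_mul, map_inv, ← mul_assoc, ← h.comm]; group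

theorem der_Sy : ⁅Sy t φ, Sy t φ⁆ ≤ zpowers (φ z0) := by
  rw [commutator_le]
  intro a ha b hb
  obtain ⟨x, hx, ea⟩ := h.mem_Sy.1 ha
  obtain ⟨y, hy, eb⟩ := h.mem_Sy.1 hb
  have key : a * b * a⁻¹ * b⁻¹ = φ (x * y * x⁻¹ * y⁻¹) := by
    have c1 : φ x * b * (φ x)⁻¹ * b⁻¹ = φ (x * y * x⁻¹ * y⁻¹) := by
      rcases eb with rfl | rfl
      · simp
      · rw [h.conj_t_mul, h.comm, h.comm]; simp [mul_assoc]
    rcases ea with rfl | rfl
    · exact c1
    · rw [← c1]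
      have hb' := h.Sy_comm hb
      calc t * φ x * b * (t * φ x)⁻¹ * b⁻¹ = φ x * (t * b) * t⁻¹ * (φ x)⁻¹ * b⁻¹ := by
            rw [h.comm]; group
        _ = _ := by rw [← hb']; group
  rw [commutatorElement_def, key]
  rcases f4 x y hx hy with e | e <;> rw [e]
  · rw [map_one]; exact one_mem _
  · exact mem_zpowers _

/-- the twisted embedding of `S₄` -/
noncomputable def twist : S4 →* G where
  toFun x := if Perm.sign x = 1 then φ x else t * φ x
  map_one' := by simp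
  map_mul' x y := by
    rcases Int.units_eq_one_or (Perm.sign x) with hx | hx <;>
      rcases Int.units_eq_one_or (Perm.sign y) with hy | hy <;>
      simp only [map_mul, hx, hy, mul_one, mul_neg, neg_neg, if_true,
        show ¬ ((-1 : ℤˣ) = 1) by decide, if_false]
    · rw [← mul_assoc, ← mul_assoc, h.comm]
    · rw [mul_assoc]
    · calc φ x * φ y = (t * t) * (φ x * φ y) := by rw [h.tt, one_mul]
        _ = t * (t * φ x) * φ y := by group
        _ = t * (φ x * t) * φ y := by rw [h.comm x]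
        _ = _ := by group

theorem twist_cases (x : S4) : (Perm.sign x = 1 ∧ h.twist x = φ x) ∨
    (Perm.sign x ≠ 1 ∧ h.twist x = t * φ x) := by
  by_cases e : Perm.sign x = 1
  · exact Or.inl ⟨e, if_pos e⟩
  · exact Or.inr ⟨e, if_neg e⟩

theorem twist_z0 : h.twist z0 = φ z0 :=
  ((h.twist_cases z0).resolve_right fun e => e.1 (by decide +kernel)).2
theorem twist_b0 : h.twist b0 = t * φ b0 :=
  ((h.twist_cases b0).resolve_left fun e => absurd e.1 (by decide +kernel)).2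

theorem cfg_twist : Cfg0 t h.twist where
  ht := h.ht
  inj := by
    rw [injective_iff_map_eq_one]
    intro x hx
    rcases h.twist_cases x with ⟨-, e⟩ | ⟨-, e⟩ <;> rw [e] at hx
    · exact (injective_iff_map_eq_one φ).1 h.inj x hx
    · exact absurd (by rw [eq_inv_of_mul_eq_one_right hx, h.tinv]) (h.ne x)
  comm x := by
    rcases h.twist_cases x with ⟨-, e⟩ | ⟨-, e⟩ <;> rw [e]
    · exact h.comm x
    · rw [mul_assoc, ← h.comm]
  ne x hx := by
    rcases h.twist_cases x with ⟨-, e⟩ | ⟨s, e⟩ <;> rw [e] at hx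
    · exact h.ne x hx
    · exact s (by rw [(injective_iff_map_eq_one φ).1 h.inj x (by simpa using hx), map_one])
  cent g hg := by
    obtain ⟨x, hx⟩ := h.cent g hg
    refine ⟨x, ?_⟩
    rcases h.twist_cases x with ⟨-, e⟩ | ⟨-, e⟩ <;> rw [e]
    · exact hx
    · rw [← mul_assoc, h.tt, one_mul]; exact hx.symm
  odd := h.odd

end Cfg0

/-- in addition `C(z) ≤ C(t)` -/
structure Cfg (t : G) (φ : S4 →* G) : Prop extends Cfg0 t φ where
  centz : ∀ g, g * φ z0 = φ z0 * g → g * t = t * g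

namespace Cfg

variable {t : G} {φ : S4 →* G} (h : Cfg t φ)
include h

theorem twist : Cfg t h.toCfg0.twist :=
  ⟨h.cfg_twist, fun g hg => h.centz g (by rwa [h.twist_z0] at hg)⟩

theorem mem_Sy_of_comm {g : G} (hg : g * φ z0 = φ z0 * g) : g ∈ Sy t φ := by
  obtain ⟨x, hx⟩ := h.cent g (h.centz g hg)
  refine h.mem_Sy.2 ⟨x, h.inj ?_, hx⟩
  rcases hx with rfl | rfl
  · rwa [map_mul, map_mul]
  · rw [mul_assoc, ← mul_assoc (φ z0), ← h.comm, mul_assoc] at hg
    rw [map_mul, map_mul]; exact mul_left_cancel hg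

/-- no fusion in the centre of the Sylow 2-subgroup -/
theorem eq_of_conj {x y : G} (hx : ∀ s ∈ Sy t φ, s * x = x * s)
    (hy : ∀ s ∈ Sy t φ, s * y = y * s) (c : IsConj x y) : x = y := by
  have : Fact (Nat.Prime 2) := ⟨Nat.prime_two⟩
  obtain ⟨S, hS⟩ := h.exists_sylow
  obtain ⟨g, rfl⟩ := isConj_iff.1 c
  obtain ⟨n, hn, e⟩ := S.conj_eq_normalizer_conj_of_mem_centralizer x g⁻¹
    (fun s hs => hx s (hS ▸ hs)) (fun s hs => by rw [inv_inv]; exact hy s (hS ▸ hs))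
  rw [inv_inv] at e
  have h1 : n * φ a0 * n⁻¹ ∈ Sy t φ := by
    rw [← hS]
    exact (mem_normalizer_iff.1 hn _).1 (hS ▸ h.mem_Sy.2 ⟨a0, a0_z0, Or.inl rfl⟩)
  have h2 : n * φ z0 * n⁻¹ = φ z0 := by
    obtain ⟨w, hw, e⟩ := h.mem_Sy.1 h1
    have e2 : n * φ z0 * n⁻¹ = φ (w * w) := by
      have : n * φ z0 * n⁻¹ = (n * φ a0 * n⁻¹) * (n * φ a0 * n⁻¹) := by
        rw [← f2, map_mul]; group
      rcases e with e | e <;> rw [this, e]
      · rw [map_mul]
      · exact h.t_mul_sq w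
    rcases f3 w hw with e3 | e3
    · rw [e3, map_one] at e2
      exact absurd (h.inj (by simpa using e2)) z0_ne
    · rw [e2, e3]
  have h3 := h.mem_Sy_of_comm (mul_inv_eq_iff_eq_mul.1 h2)
  rw [e, mul_assoc, ← hx n h3]; group

theorem t_mem : t ∈ Sy t φ := h.mem_Sy.2 ⟨1, by simp, Or.inr (by simp)⟩
theorem z_mem : φ z0 ∈ Sy t φ := h.mem_Sy.2 ⟨z0, rfl, Or.inl rfl⟩

theorem Sy_comm_tz {g : G} (hg : g ∈ Sy t φ) : g * (t * φ z0) = t * φ z0 * g := by
  rw [← mul_assoc, h.Sy_comm hg, mul_assoc, h.Sy_comm_z hg, mul_assoc]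

theorem not_t_z : ¬ IsConj t (φ z0) := fun c =>
  h.ne z0 (h.eq_of_conj (fun _ => h.Sy_comm) (fun _ => h.Sy_comm_z) c).symm

theorem not_t_tz : ¬ IsConj t (t * φ z0) := fun c => z0_ne (h.inj (by
  simpa using h.eq_of_conj (fun _ => h.Sy_comm) (fun _ => h.Sy_comm_tz) c))

theorem not_z_tz : ¬ IsConj (φ z0) (t * φ z0) := fun c => h.t_ne (by
  simpa using h.eq_of_conj (fun _ => h.Sy_comm_z) (fun _ => h.Sy_comm_tz) c)

/-- the involutions of `C(t)` -/
theorem inv_cases {g : G} (hg : g * t = t * g) (h2 : g * g = 1) :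
    g = 1 ∨ g = t ∨ (∃ y, g = φ (y * z0 * y⁻¹)) ∨ (∃ y, g = t * φ (y * z0 * y⁻¹)) ∨
      (∃ y, g = φ (y * b0 * y⁻¹)) ∨ ∃ y, g = t * φ (y * b0 * y⁻¹) := by
  obtain ⟨x, rfl | rfl⟩ := h.cent g hg
  · rcases f1 x (h.inj (by rw [map_mul, h2, map_one])) with e | ⟨y, e⟩ | ⟨y, e⟩
    · exact Or.inl (by rw [e, map_one])
    · exact Or.inr (Or.inr (Or.inl ⟨y, by rw [e]⟩))
    · exact Or.inr (Or.inr (Or.inr (Or.inr (Or.inl ⟨y, by rw [e]⟩))))
  · rcases f1 x (h.inj (by rw [← h.t_mul_sq, h2, map_one])) with e | ⟨y, e⟩ | ⟨y, e⟩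
    · exact Or.inr (Or.inl (by rw [e, map_one, mul_one]))
    · exact Or.inr (Or.inr (Or.inr (Or.inl ⟨y, by rw [e]⟩)))
    · exact Or.inr (Or.inr (Or.inr (Or.inr (Or.inr ⟨y, by rw [e]⟩))))

omit h in
theorem conj1 (y x : S4) : IsConj (φ x) (φ (y * x * y⁻¹)) :=
  isConj_iff.2 ⟨φ y, by simp⟩

theorem conj2 (y x : S4) : IsConj (t * φ x) (t * φ (y * x * y⁻¹)) :=
  isConj_iff.2 ⟨φ y, h.conj_t_mul y x⟩

end Cfg

end Cfsg.Agent.H18.S6
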