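/-
Groups with an involution `t` such that `C(t) = ⟨t⟩ × S₄`, `C(z) ≤ C(t)`: recognition of `S₆`.
-/
import Cfsg.Agent.H18.S6a
import Cfsg.Agent.H8.OddCore
import Cfsg.Agent.H9.SLBasic
import Cfsg.Agent.H95.W5
import Cfsg.Agent.GW.Basic1
import Cfsg.Agent.S0100
import Cfsg.Agent.S3035

set_option autoImplicit false
set_option linter.unusedSectionVars false

namespace Cfsg.Agent.H18.S6

open Subgroup Equiv

def sw : Fin 6 → S4 := ![swap 0 1, swap 1 2, swap 0 2, swap 2 3, swap 0 3, swap 1 3]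

theorem g1 : ∀ y : S4, ∃ i, y * b0 * y⁻¹ = sw i := by decide +kernel
theorem g2 : ∀ i, ∃ y : S4, y * b0 * y⁻¹ = sw i := by decide +kernel
theorem g3 : ∀ i j k, i ≠ j → sw i * sw j = sw j * sw i → sw k * sw i ≠ sw i * sw k →
    sw i * sw k * sw i = sw k * sw i * sw k ∧ sw j * sw k * sw j = sw k * sw j * sw k := by
  decide +kernel
theorem g4 : ∀ i, (Finset.univ.filter fun j => sw j * sw i ≠ sw i * sw j).card = 4 := by
  decide +kernel
theorem g5 : Function.Injective sw := by decide +kernel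
theorem g6 : ∀ i, sw i ≠ 1 := by decide +kernel
theorem g7 : ∀ i, sw i * sw i = 1 := by decide +kernel
theorem g8 : r0 * z0 ≠ z0 * r0 := by decide +kernel
theorem g9 : r0 * z0 * r0⁻¹ * (r0⁻¹ * z0 * r0⁻¹⁻¹) = z0 := by decide +kernel
theorem g10 : b0 * a0 * b0⁻¹ = a0⁻¹ := by decide +kernel
theorem g11 : orderOf a0 = 4 :=
  orderOf_eq_prime_pow (p := 2) (n := 1) (by decide +kernel) (by decide +kernel)
theorem g12 : ∀ i : Fin 4, a0 ^ (i : ℕ) ≠ b0 := by decide +kernel

variable {G : Type*} [Group G] [Finite G]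

namespace Cfg

variable {t : G} {φ : S4 →* G} (h : Cfg t φ)
include h

theorem not_both (c1 : IsConj t (φ b0)) (c2 : IsConj t (t * φ b0)) : False := by
  obtain ⟨g, hg⟩ := isConj_iff.1 c1.symm
  have key : ∀ x : G, x * φ b0 = φ b0 * x → g * x * g⁻¹ * t = t * (g * x * g⁻¹) := fun x hx => by
    rw [← hg]
    calc g * x * g⁻¹ * (g * φ b0 * g⁻¹) = g * (x * φ b0) * g⁻¹ := by group
      _ = _ := by rw [hx]; group
  have sq : ∀ x : G, x * x = 1 → g * x * g⁻¹ * (g * x * g⁻¹) = 1 := fun x hx => by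
    calc _ = g * (x * x) * g⁻¹ := by group
      _ = 1 := by rw [hx]; group
  have hzb : φ z0 * φ b0 = φ b0 * φ z0 := by rw [← map_mul, ← b0_z0, map_mul]
  have cz : IsConj (φ z0) (g * φ z0 * g⁻¹) := isConj_iff.2 ⟨g, rfl⟩
  have ctz : IsConj (t * φ z0) (g * (t * φ z0) * g⁻¹) := isConj_iff.2 ⟨g, rfl⟩
  obtain ⟨y, e1⟩ : ∃ y, g * φ z0 * g⁻¹ = φ (y * z0 * y⁻¹) := by
    rcases h.inv_cases (key _ hzb) (sq _ (by rw [← map_mul, z0_sq, map_one])) with
      e | e | e | ⟨y, e⟩ | ⟨y, e⟩ | ⟨y, e⟩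
    · exact absurd (h.inj (by simpa using e)) z0_ne
    · exact absurd (e ▸ cz).symm h.not_t_z
    · exact e
    · exact absurd ((e ▸ cz).trans (h.conj2 y z0).symm) h.not_z_tz
    · exact absurd (c1.trans ((conj1 y b0).trans (e ▸ cz).symm)) h.not_t_z
    · exact absurd (c2.trans ((h.conj2 y b0).trans (e ▸ cz).symm)) h.not_t_z
  obtain ⟨y', e2⟩ : ∃ y, g * (t * φ z0) * g⁻¹ = t * φ (y * z0 * y⁻¹) := by
    rcases h.inv_cases (key (t * φ z0) (by rw [mul_assoc, hzb, ← mul_assoc, h.comm, mul_assoc]))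
      (sq _ (by rw [h.t_mul_sq, z0_sq, map_one])) with e | e | ⟨y, e⟩ | e | ⟨y, e⟩ | ⟨y, e⟩
    · have : t * φ z0 = 1 := by simpa using e
      exact absurd (by rw [eq_inv_of_mul_eq_one_right this, h.tinv]) (h.ne z0)
    · exact absurd (e ▸ ctz).symm h.not_t_tz
    · exact absurd ((conj1 y z0).trans (e ▸ ctz).symm) h.not_z_tz
    · exact e
    · exact absurd (c1.trans ((conj1 y b0).trans (e ▸ ctz).symm)) h.not_t_tz
    · exact absurd (c2.trans ((h.conj2 y b0).trans (e ▸ ctz).symm)) h.not_t_tz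
  have e3 : g * t * g⁻¹ = t * φ (y' * z0 * y'⁻¹ * (y * z0 * y⁻¹)) := by
    rw [map_mul _ (y' * z0 * y'⁻¹), ← mul_assoc, ← e1, ← e2]
    calc g * t * g⁻¹ = g * (t * φ (z0 * z0)) * g⁻¹ := by rw [z0_sq, map_one, mul_one]
      _ = _ := by rw [map_mul]; group
  rcases f8 y' y with e | ⟨w, e⟩
  · rw [e, map_one, mul_one] at e3
    exact h.ne b0 (by simpa using hg.trans e3.symm)
  · rw [← e] at e3
    exact h.not_t_tz ((isConj_iff.2 ⟨g, e3⟩).trans (h.conj2 w z0).symm)

theorem odd_eq_bot {N : Subgroup G} (hn : ∀ x, φ x ∈ normalizer (N : Set G))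
    (ho : Odd (Nat.card N)) : N = ⊥ := by
  have key : ∀ y, N ⊓ centralizer ({φ (y * z0 * y⁻¹)} : Set G) = ⊥ := fun y => by
    rw [eq_bot_iff]
    rintro x ⟨hx, hc⟩
    have h1 : (φ y)⁻¹ * x * φ y ∈ Sy t φ := h.mem_Sy_of_comm (by
      have := mem_centralizer_singleton_iff.1 hc
      simp only [map_mul, map_inv] at this
      calc (φ y)⁻¹ * x * φ y * φ z0 = (φ y)⁻¹ * (x * (φ y * φ z0 * (φ y)⁻¹)) * φ y := by group
        _ = _ := by rw [this]; group)
    have h2 : x ^ 16 = 1 := by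
      have := congrArg Subtype.val (h.card_Sy ▸ pow_card_eq_one' (x := (⟨_, h1⟩ : Sy t φ)))
      have e : x = φ y * ((φ y)⁻¹ * x * φ y) * (φ y)⁻¹ := by group
      rw [e, conj_pow, show ((φ y)⁻¹ * x * φ y) ^ 16 = 1 from this]; group
    have h3 : x ^ Nat.card N = 1 := congrArg Subtype.val (pow_card_eq_one' (x := (⟨x, hx⟩ : N)))
    exact mem_bot.2 (H43.eq_one_of_pow_coprime
      (Nat.Coprime.pow_left 4 ((Nat.coprime_two_left).2 ho)) h2 h3)
  have sq : ∀ y, φ (y * z0 * y⁻¹) * φ (y * z0 * y⁻¹) = 1 := fun y => by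
    rw [← map_mul, show y * z0 * y⁻¹ * (y * z0 * y⁻¹) = y * (z0 * z0) * y⁻¹ by group, z0_sq]; simp
  have := (GW.inverts_of_fix_eq_bot (sq r0) (hn _) (key r0)).mul_mem_cent
    (GW.inverts_of_fix_eq_bot (sq r0⁻¹) (hn _) (key r0⁻¹))
  rw [← map_mul, g9] at this
  rw [← key 1, eq_comm, inf_eq_left]
  intro x hx
  rw [one_mul, inv_one, mul_one]
  exact mem_centralizer_singleton_iff.2 (this x hx)

theorem top_of_isolated (c1 : ¬ IsConj t (φ b0)) (c2 : ¬ IsConj t (t * φ b0)) :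
    centralizer ({t} : Set G) = ⊤ := by
  obtain ⟨S, hS⟩ := h.exists_sylow
  obtain ⟨N, hN, ho, hc⟩ := S0215.result S t h.ht (by rw [← SetLike.mem_coe, ← S.coe_coe, hS]; exact h.t_mem)
    (fun g hg => by
      have c : IsConj t (g * t * g⁻¹) := isConj_iff.2 ⟨g, rfl⟩
      have hg' : g * t * g⁻¹ ∈ Sy t φ := hS ▸ hg
      rcases h.inv_cases (h.Sy_comm hg') (by
        calc _ = g * (t * t) * g⁻¹ := by group
          _ = 1 := by rw [h.tt]; group) with e | e | ⟨y, e⟩ | ⟨y, e⟩ | ⟨y, e⟩ | ⟨y, e⟩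
      · exact absurd (by simpa using e) h.t_ne
      · exact e
      · exact absurd ((e ▸ c).trans (conj1 y z0).symm) h.not_t_z
      · exact absurd ((e ▸ c).trans (h.conj2 y z0).symm) h.not_t_tz
      · exact absurd ((e ▸ c).trans (conj1 y b0).symm) c1
      · exact absurd ((e ▸ c).trans (h.conj2 y b0).symm) c2)
  rw [h.odd_eq_bot (N := N) (fun x => by rw [normalizer_eq_top]; trivial) ho] at hc
  refine eq_top_iff.2 fun g _ => mem_centralizer_singleton_iff.2 ?_
  have := mem_bot.1 (hc g)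
  calc g * t = (t * g * t⁻¹ * g⁻¹) * (g * t) := by rw [this, one_mul]
    _ = _ := by group

section main

variable (c2 : IsConj t (t * φ b0))
include c2

theorem conj_sw (i : Fin 6) : IsConj t (t * φ (sw i)) := by
  obtain ⟨y, e⟩ := g2 i
  exact e ▸ c2.trans (h.conj2 y b0)

theorem mem_T {u : G} (c : IsConj t u) (hu : u * t = t * u) : u = t ∨ ∃ i, u = t * φ (sw i) := by
  obtain ⟨g, rfl⟩ := isConj_iff.1 c
  rcases h.inv_cases hu (by
    calc _ = g * (t * t) * g⁻¹ := by group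
      _ = 1 := by rw [h.tt]; group) with e | e | ⟨y, e⟩ | ⟨y, e⟩ | ⟨y, e⟩ | ⟨y, e⟩
  · exact absurd (by simpa using e) h.t_ne
  · exact Or.inl e
  · exact absurd ((e ▸ c).trans (conj1 y z0).symm) h.not_t_z
  · exact absurd ((e ▸ c).trans (h.conj2 y z0).symm) h.not_t_tz
  · exact (h.not_both ((e ▸ c).trans (conj1 y b0).symm) c2).elim
  · obtain ⟨i, hi⟩ := g1 y
    exact Or.inr ⟨i, hi ▸ e⟩

theorem mem_T' {g u : G} (c : IsConj t u) (hu : u * (g * t * g⁻¹) = g * t * g⁻¹ * u)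
    (hne : u ≠ g * t * g⁻¹) : ∃ i, u = g * (t * φ (sw i)) * g⁻¹ := by
  rcases h.mem_T c2 (u := g⁻¹ * u * g⁻¹⁻¹) (c.trans (isConj_iff.2 ⟨g⁻¹, rfl⟩)) (by
    calc g⁻¹ * u * g⁻¹⁻¹ * t = g⁻¹ * (u * (g * t * g⁻¹)) * g := by group
      _ = _ := by rw [hu]; group) with e | ⟨i, e⟩
  · exact absurd (by rw [← e]; group) hne
  · exact ⟨i, by rw [← e]; group⟩

omit c2 in
theorem mul2 (x y : S4) : t * φ x * (t * φ y) = φ (x * y) := by
  calc t * φ x * (t * φ y) = t * (φ x * t) * φ y := by group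
    _ = (t * t) * (φ x * φ y) := by rw [← h.comm]; group
    _ = _ := by rw [h.tt, one_mul, map_mul]

omit c2 in
theorem mul3 (x y w : S4) : t * φ x * (t * φ y) * (t * φ w) = t * φ (x * y * w) := by
  rw [h.mul2, ← mul_assoc, ← h.comm, mul_assoc, ← map_mul]

omit c2 in
theorem comm_iff (g : G) (x y : S4) : g * (t * φ x) * g⁻¹ * (g * (t * φ y) * g⁻¹) =
    g * (t * φ y) * g⁻¹ * (g * (t * φ x) * g⁻¹) ↔ x * y = y * x := by
  rw [conj_mul, conj_mul, h.mul2, h.mul2, mul_left_inj, mul_right_inj, h.inj.eq_iff]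

theorem braid {s u v w : G} (cs : IsConj t s) (cu : IsConj t u) (cv : IsConj t v)
    (cw : IsConj t w) (hu : u * s = s * u) (hv : v * s = s * v) (hw : w * s = s * w) (us : u ≠ s)
    (vs : v ≠ s) (uv : u ≠ v) (huv : u * v = v * u) (hwu : w * u ≠ u * w) :
    u * w * u = w * u * w ∧ v * w * v = w * v * w := by
  obtain ⟨g, rfl⟩ := isConj_iff.1 cs
  obtain ⟨i, rfl⟩ := h.mem_T' c2 cu hu us
  obtain ⟨j, rfl⟩ := h.mem_T' c2 cv hv vs
  obtain ⟨k, rfl⟩ := h.mem_T' c2 cw hw (fun e => hwu (by rw [e, hu]))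
  obtain ⟨e1, e2⟩ := g3 i j k (fun e => uv (by rw [e])) ((h.comm_iff g _ _).1 huv)
    (fun e => hwu ((h.comm_iff g _ _).2 e))
  simp only [conj_mul, h.mul3, e1, e2, and_self]

theorem four_le {s u : G} (cs : IsConj t s) (cu : IsConj t u) (hu : u * s = s * u) (us : u ≠ s) :
    4 ≤ {w | IsConj t w ∧ w * s = s * w ∧ w * u ≠ u * w}.ncard := by
  obtain ⟨g, rfl⟩ := isConj_iff.1 cs
  obtain ⟨i, rfl⟩ := h.mem_T' c2 cu hu us
  refine (g4 i).ge.trans ?_
  rw [← Set.ncard_coe_finset]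
  refine Set.ncard_le_ncard_of_injOn (fun j => g * (t * φ (sw j)) * g⁻¹) (fun j hj => ?_)
    (fun j _ k _ e => g5 (h.inj (by simpa using e)))
  refine ⟨(h.conj_sw c2 j).trans (isConj_iff.2 ⟨g, rfl⟩), ?_, fun e => ?_⟩
  · rw [conj_mul, conj_mul, mul_assoc t, ← h.comm]
  · exact (by simpa using hj : _ ≠ _) ((h.comm_iff g _ _).1 e)

theorem delta_le : {w | IsConj t w ∧ w * t ≠ t * w}.ncard + 7 ≤ (centralizer ({t} : Set G)).index := by
  have h1 : (insert t (Set.range fun i => t * φ (sw i))).ncard = 7 := by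
    rw [Set.ncard_insert_of_notMem, Set.ncard_range_of_injective
      (fun i j e => g5 (h.inj (by simpa using e))), Nat.card_fin]
    rintro ⟨i, e⟩
    exact g6 i (h.inj (by simpa using e))
  rw [← h1, ← Set.ncard_union_eq, S0100.index_centralizer_singleton]
  · refine Set.ncard_le_ncard ?_
    rintro w (hw | rfl | ⟨i, rfl⟩)
    exacts [hw.1.symm, IsConj.refl _, (h.conj_sw c2 i).symm]
  · rw [Set.disjoint_left]
    rintro w hw (rfl | ⟨i, rfl⟩)
    · exact hw.2 rfl
    · exact hw.2 (by rw [mul_assoc, ← h.comm])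

theorem card_cases : Nat.card G = 720 := by
  have hnt : ∀ g : G, g * t * g⁻¹ ∉ (⊤ : Subgroup S4).map φ := by
    rintro g ⟨x, -, e⟩
    rcases h.mem_T c2 (isConj_iff.2 ⟨g, rfl⟩) (by rw [← e, h.comm]) with e' | ⟨i, e'⟩
    · exact h.ne x (e.trans e')
    · exact h.ne (x * (sw i)⁻¹) (by rw [map_mul, e, e', map_inv]; group)
  obtain ⟨K, hK, hKi, htK, -⟩ := exists_index_two (Q := (⊤ : Subgroup S4).map φ) h.odd
    (by rw [h.cent_eq]
        exact H42.relIndex_sup_zpowers (h.norm ⊤) (by rw [h.tt]; exact one_mem _)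
          (by simpa using hnt 1)) (u := t) (n := 1) (by rw [pow_one, sq, h.tt]) hnt
    (fun k g _ => by rw [h.tt]; simp)
  have hK1 : ∀ x, φ x ∈ K := by
    have hb : φ b0 ∈ K := by
      by_contra hb
      obtain ⟨g, e⟩ := isConj_iff.1 c2.symm
      exact htK (e ▸ hK.conj_mem _ ((mul_mem_iff_of_index_two hKi).2 (by simp [htK, hb])) g)
    intro x
    induction x using Perm.swap_induction_on with
    | one => rw [map_one]; exact one_mem _
    | swap_mul f i j hij ih =>
      obtain ⟨y, e⟩ := isConj_iff.1 (Perm.isConj_swap (by decide : (0 : Fin 4) ≠ 1) hij)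
      rw [map_mul, ← e, map_mul, map_mul, map_inv]
      exact mul_mem (hK.conj_mem _ hb _) ih
  let ψ : S4 →* K := φ.codRestrict K hK1
  have hψ : Function.Injective ψ := fun a b e => h.inj (congrArg Subtype.val e)
  have hC : centralizer ({ψ z0} : Set K) = zpowers (ψ a0) ⊔ zpowers (ψ b0) := by
    refine le_antisymm (fun g hg => ?_) (sup_le (zpowers_le.2 ?_) (zpowers_le.2 ?_))
    · obtain ⟨x, hx, e | e⟩ := h.mem_Sy.1 (h.mem_Sy_of_comm (g := g)
        (congrArg Subtype.val (mem_centralizer_singleton_iff.1 hg)))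
      · obtain rfl : g = ψ x := Subtype.ext e
        obtain ⟨i, rfl | rfl⟩ := f7 x hx
        · rw [map_pow]; exact mem_sup_left (pow_mem (mem_zpowers _) _)
        · rw [map_mul, map_pow]
          exact mul_mem (mem_sup_left (pow_mem (mem_zpowers _) _)) (mem_sup_right (mem_zpowers _))
      · exact absurd (by simpa [e] using mul_mem g.2 (inv_mem (hK1 x))) htK
    · rw [mem_centralizer_singleton_iff, ← map_mul, a0_z0, map_mul]
    · rw [mem_centralizer_singleton_iff, ← map_mul, b0_z0, map_mul]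
  have hD := H42.dihedral_recog (a := ψ a0) (b := ψ b0) (n := 4) (by norm_num)
    (by rw [orderOf_injective ψ hψ, g11]) (by rw [← map_mul, b0_sq, map_one])
    (by rw [← map_inv, ← map_mul, ← map_mul, g10, map_inv]) (fun hm => by
      obtain ⟨n, hn⟩ := mem_powers_iff_mem_zpowers.2 hm
      refine g12 ⟨n % 4, Nat.mod_lt _ (by norm_num)⟩ (hψ ?_)
      have := pow_mod_orderOf (ψ a0) n
      rw [orderOf_injective ψ hψ, g11] at this
      rw [map_pow, ← hn]; exact this)
  rw [← hC] at hD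
  have hz : orderOf (ψ z0) = 2 :=
    orderOf_eq_prime (by rw [sq, ← map_mul, z0_sq, map_one]) fun e => z0_ne (hψ (by simpa using e))
  have e1 := K.card_mul_index
  have e2 := (centralizer ({t} : Set G)).card_mul_index
  have e3 := h.delta_le c2
  have e4 := (h.four_le c2 (h.conj_sw c2 0) (IsConj.refl t) (by rw [mul_assoc, ← h.comm])
    (fun e => g6 0 (h.inj (by simpa using e)))).trans
    (Set.ncard_le_ncard (t := {w | IsConj t w ∧ w * t ≠ t * w}) fun w hw => ⟨hw.1, hw.2.2⟩)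
  rw [hKi] at e1
  rw [h.card_cent] at e2
  rcases S3035.result (ψ z0) hz hD with e | ⟨⟨e⟩⟩ | ⟨⟨e⟩⟩ | ⟨⟨e⟩⟩ | ⟨⟨e⟩⟩
  · exfalso
    have h0 : (oddCore K).map K.subtype = ⊥ :=
      h.odd_eq_bot (fun x => H49.norm_map_subtype (pPrimeCore 2 K) (hK1 x))
        (by rw [card_map_of_injective K.subtype_injective]; exact H8.odd_card_pPrimeCore)
    rw [(map_eq_bot_iff_of_injective _ K.subtype_injective).1 h0, sup_bot_eq] at e
    have : ψ r0 ∈ centralizer ({ψ z0} : Set K) := e ▸ mem_top _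
    exact g8 (hψ (by rw [map_mul, map_mul]; exact mem_centralizer_singleton_iff.1 this))
  · have := Nat.card_congr e.toEquiv
    rw [card_S4] at this; omega
  · have := Nat.card_congr e.toEquiv
    rw [Nat.card_perm, Nat.card_fin, show Nat.factorial 5 = 120 from rfl] at this; omega
  · have := Nat.card_congr e.toEquiv
    have : Fact (Nat.Prime 2) := ⟨Nat.prime_two⟩
    have h3 := H9.card_sl_fin (F := ZMod 2) 3 (by norm_num)
    simp [Fin.prod_univ_three] at h3
    rw [Nat.card_eq_fintype_card (α := Matrix.SpecialLinearGroup _ _)] at *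
    omega
  · have := Nat.card_congr e.toEquiv
    have h3 := two_mul_nat_card_alternatingGroup (α := Fin 6)
    rw [Nat.card_perm, Nat.card_fin, show Nat.factorial 6 = 720 from rfl] at h3; omega

theorem equiv_of (i j k : Fin 6) (ik : i ≠ k) (c13 : sw i * sw k = sw k * sw i)
    (b12 : sw i * sw j * sw i = sw j * sw i * sw j) (b23 : sw j * sw k * sw j = sw k * sw j * sw k)
    (ij : sw i * sw j ≠ 1) {u : G} (cu : IsConj t u) (hi : u * (t * φ (sw i)) = t * φ (sw i) * u)
    (hj : u * (t * φ (sw j)) = t * φ (sw j) * u) (ht : u * t ≠ t * u) :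
    Nonempty (G ≃* Perm (Fin 6)) := by
  have ct : ∀ i, t * φ (sw i) * t = t * (t * φ (sw i)) := fun i => by rw [mul_assoc, ← h.comm]
  obtain ⟨e1, e2⟩ := h.braid c2 (h.conj_sw c2 i) (IsConj.refl t) (h.conj_sw c2 k) cu (ct i).symm
    (by rw [h.mul2, h.mul2, c13]) hi (fun e => g6 i (h.inj (by simpa using e)))
    (fun e => ik (g5 (h.inj (by simpa using e.symm)))) (fun e => g6 k (h.inj (by simpa using e)))
    (ct k).symm ht
  have uu : u * u = 1 := by
    obtain ⟨g, rfl⟩ := isConj_iff.1 cu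
    rw [conj_mul, h.tt]; group
  have ss : ∀ i, t * φ (sw i) * (t * φ (sw i)) = 1 := fun i => by rw [h.mul2, g7, map_one]
  obtain ⟨χ, hχ⟩ := H95.exists_hom_perm_of_coxeter 5
    (fun n => if n = 0 then t * φ (sw i) else if n = 1 then t * φ (sw j) else
      if n = 2 then t * φ (sw k) else if n = 3 then u else t)
    (fun n hn => by interval_cases n <;> simp [ss, uu, h.tt])
    (fun n hn => by
      have : n < 4 := by omega
      interval_cases n
      · simp [h.mul3, b12]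
      · simp [h.mul3, b23]
      · simpa using e2
      · simpa using e1.symm)
    (fun n m hnm hm => by
      have : n < 3 := by omega
      interval_cases n <;> interval_cases m <;> simp only [Commute, SemiconjBy] <;> simp
      · rw [h.mul2, h.mul2, c13]
      · exact hi.symm
      · exact ct i
      · exact hj.symm
      · exact ct j
      · exact ct k)
  have hinj := H95.perm_injective_of_even (n := 6) (by norm_num) χ
    (σ := swap 0 1 * swap 1 2) (by decide +kernel) (by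
      have a1 : χ (swap 0 1) = t * φ (sw i) := hχ 0 (by norm_num)
      have a2 : χ (swap 1 2) = t * φ (sw j) := hχ 1 (by norm_num)
      rw [map_mul, a1, a2, h.mul2]
      exact fun e => ij (h.inj (by simpa using e)))
  exact ⟨(MulEquiv.ofBijective χ (hinj.bijective_of_nat_card_le (by
    rw [h.card_cases c2, Nat.card_perm, Nat.card_fin]; rfl))).symm⟩

theorem equiv_S6 : Nonempty (G ≃* Perm (Fin 6)) := by
  let N : Fin 6 → Set G := fun i =>
    {w | IsConj t w ∧ w * (t * φ (sw i)) = t * φ (sw i) * w ∧ w * t ≠ t * w}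
  have h4 : ∀ i, 4 ≤ (N i).ncard := fun i => h.four_le c2 (h.conj_sw c2 i) (IsConj.refl t)
    (by rw [mul_assoc, ← h.comm]) (fun e => g6 i (h.inj (by simpa using e)))
  have e2 := (centralizer ({t} : Set G)).card_mul_index
  have e3 := h.delta_le c2
  rw [h.card_cent, h.card_cases c2] at e2
  by_cases d1 : Disjoint (N 0) (N 1)
  · by_cases d2 : Disjoint (N 0 ∪ N 1) (N 2)
    · exfalso
      have e4 := Set.ncard_le_ncard (s := N 0 ∪ N 1 ∪ N 2) (t := {w | IsConj t w ∧ w * t ≠ t * w})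
        (by rintro w ((hw | hw) | hw) <;> exact ⟨hw.1, hw.2.2⟩)
      rw [Set.ncard_union_eq d2, Set.ncard_union_eq d1] at e4
      have := h4 0
      have := h4 1
      have := h4 2
      omega
    · obtain ⟨u, hu | hu, hu'⟩ := Set.not_disjoint_iff.1 d2
      · exact h.equiv_of c2 0 2 3 (by decide) (by decide +kernel) (by decide +kernel)
          (by decide +kernel) (by decide +kernel) hu.1 hu.2.1 hu'.2.1 hu.2.2
      · exact h.equiv_of c2 1 2 4 (by decide) (by decide +kernel) (by decide +kernel)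
          (by decide +kernel) (by decide +kernel) hu.1 hu.2.1 hu'.2.1 hu.2.2
  · obtain ⟨u, hu, hu'⟩ := Set.not_disjoint_iff.1 d1
    exact h.equiv_of c2 0 1 3 (by decide) (by decide +kernel) (by decide +kernel)
      (by decide +kernel) (by decide +kernel) hu.1 hu.2.1 hu'.2.1 hu.2.2

end main

theorem top_or_S6 : centralizer ({t} : Set G) = ⊤ ∨ Nonempty (G ≃* Perm (Fin 6)) := by
  by_cases c2 : IsConj t (t * φ b0)
  · exact Or.inr (h.equiv_S6 c2)
  by_cases c1 : IsConj t (φ b0)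
  · exact Or.inr (h.twist.equiv_S6 (by rwa [h.twist_b0, ← mul_assoc, h.tt, one_mul]))
  · exact Or.inl (h.top_of_isolated c1 c2)

end Cfg

end Cfsg.Agent.H18.S6
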